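import Groth.Agent.L09.Artin.Str
import Groth.Agent.S0422
import Mathlib.RingTheory.Flat.EquationalCriterion
import Mathlib.RingTheory.Flat.Localization
import Mathlib.RingTheory.Flat.Stability
import Mathlib.RingTheory.FiniteStability
import Mathlib.RingTheory.RingHom.Flat
import Mathlib.RingTheory.Localization.Away.Basic
import Mathlib.RingTheory.Localization.BaseChange
import Mathlib.RingTheory.TensorProduct.MvPolynomial

/-!
Lifting a finite quotient cut out by a family defining a flat map along a square-zero ideal.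
-/

set_option autoImplicit false

universe u

open TensorProduct

namespace Groth.L09.Artin

/-- A flat module with a family reducing to a basis modulo a square-zero ideal has it as a basis. -/
theorem exists_basis_of_squareZero {A' M : Type u} [CommRing A'] [AddCommGroup M] [Module A' M] [Module.Flat A' M]
    (I : Ideal A') (hI : I ^ 2 = ⊥) {d : ℕ} (b : Fin d → M)
    (hspan : ∀ x, ∃ c : Fin d → A', x - ∑ i, c i • b i ∈ I • (⊤ : Submodule A' M))
    (hind : ∀ c : Fin d → A', ∑ i, c i • b i ∈ I • (⊤ : Submodule A' M) → ∀ i, c i ∈ I) :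
    ∃ bb : Module.Basis (Fin d) A' M, ∀ i, bb i = b i := by
  classical
  have hII : ∀ a ∈ I, ∀ a' ∈ I, a * a' = 0 := fun a ha a' ha' => by
    have := Ideal.mul_mem_mul ha ha'
    rwa [← sq, hI, Ideal.mem_bot] at this
  let P := Submodule.span A' (Set.range b)
  have hIM : I • (⊤ : Submodule A' M) ≤ P := by
    refine Submodule.smul_le.2 fun a ha x _ => ?_
    obtain ⟨c, hc⟩ := hspan x
    have h0 : a • (x - ∑ i, c i • b i) = 0 := by
      refine Submodule.smul_induction_on hc (fun a' ha' y _ => ?_) fun u v hu hv => by rw [smul_add, hu, hv, add_zero]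
      rw [smul_smul, hII a ha a' ha', zero_smul]
    rw [smul_sub, sub_eq_zero] at h0
    rw [h0]
    exact P.smul_mem a (P.sum_mem fun i _ => P.smul_mem _ (Submodule.subset_span ⟨i, rfl⟩))
  have htop : ⊤ ≤ P := fun x _ => by
    obtain ⟨c, hc⟩ := hspan x
    rw [← sub_add_cancel x (∑ i, c i • b i)]
    exact P.add_mem (hIM hc) (P.sum_mem fun i _ => P.smul_mem _ (Submodule.subset_span ⟨i, rfl⟩))
  refine ⟨Module.Basis.mk (Fintype.linearIndependent_iff.2 fun a ha => ?_) htop, fun i => Module.Basis.mk_apply _ _ i⟩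
  have haI : ∀ i, a i ∈ I := hind a (by rw [ha]; exact Submodule.zero_mem _)
  obtain ⟨k, c, y, hy, hc⟩ := Module.Flat.isTrivialRelation_of_sum_smul_eq_zero ha
  have hy' : ∀ j, ∃ e : Fin d → A', ∑ l, e l • b l = y j := fun j =>
    (Submodule.mem_span_range_iff_exists_fun A').1 (htop (Submodule.mem_top : y j ∈ _))
  choose e he using hy'
  intro l
  have hce : ∀ i l, ∑ j, c i j * e j l - (if i = l then 1 else 0) ∈ I := fun i => by
    refine hind _ ?_
    have : ∑ l, (∑ j, c i j * e j l - (if i = l then 1 else 0)) • b l = 0 := by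
      simp only [sub_smul, Finset.sum_sub_distrib, ite_smul, one_smul, zero_smul, Finset.sum_ite_eq,
        Finset.mem_univ, if_true, Finset.sum_smul]
      rw [Finset.sum_comm]
      simp only [mul_smul, ← Finset.smul_sum, he, ← hy, sub_self]
    rw [this]
    exact Submodule.zero_mem _
  have h1 : ∑ i, a i * ∑ j, c i j * e j l = 0 := by
    simp only [Finset.mul_sum, ← mul_assoc]
    rw [Finset.sum_comm]
    simp only [← Finset.sum_mul, hc, zero_mul, Finset.sum_const_zero]
  have h2 : ∑ i, a i * (∑ j, c i j * e j l - (if i = l then 1 else 0)) = 0 :=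
    Finset.sum_eq_zero fun i _ => hII _ (haI i) _ (hce i l)
  simp only [mul_sub, Finset.sum_sub_distrib, h1, mul_ite, mul_one, mul_zero, Finset.sum_ite_eq', Finset.mem_univ,
    if_true, zero_sub, neg_eq_zero] at h2
  exact h2

/-- A family defining a flat map on a basic open stays such after base change. -/
theorem flat_aeval_baseChange {R R' D D' : Type u} [CommRing R] [CommRing R'] [CommRing D] [CommRing D']
    [Algebra R R'] [Algebra R D] [Algebra R D'] [Algebra R' D'] [Algebra D D'] [IsScalarTower R R' D']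
    [IsScalarTower R D D'] [Algebra.IsPushout R R' D D'] {n : ℕ} (g : D) (f : Fin n → D)
    (hflat : (MvPolynomial.aeval (fun i => algebraMap D (Localization.Away g) (f i)) :
      MvPolynomial (Fin n) R →ₐ[R] Localization.Away g).Flat) :
    (MvPolynomial.aeval (fun i => algebraMap D' (Localization.Away (algebraMap D D' g)) (algebraMap D D' (f i))) :
      MvPolynomial (Fin n) R' →ₐ[R'] Localization.Away (algebraMap D D' g)).Flat := by
  let E := Localization.Away g
  let E' := Localization.Away (algebraMap D D' g)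
  let T := MvPolynomial (Fin n) R
  let T' := MvPolynomial (Fin n) R'
  letI algTE : Algebra T E := (MvPolynomial.aeval fun i => algebraMap D E (f i)).toRingHom.toAlgebra
  letI algTE' : Algebra T' E' :=
    (MvPolynomial.aeval fun i => algebraMap D' E' (algebraMap D D' (f i))).toRingHom.toAlgebra
  letI algEE : Algebra E E' := (IsLocalization.Away.map E E' (algebraMap D D') g).toAlgebra
  haveI : IsScalarTower D E E' := IsScalarTower.of_algebraMap_eq fun x => by
    rw [IsScalarTower.algebraMap_apply D D' E']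
    show _ = IsLocalization.Away.map E E' (algebraMap D D') g (algebraMap D E x)
    rw [IsLocalization.Away.map, IsLocalization.map_eq]
  haveI : IsScalarTower R T E := IsScalarTower.of_algebraMap_eq fun r => ((MvPolynomial.aeval _).commutes r).symm
  haveI : IsScalarTower R' T' E' := IsScalarTower.of_algebraMap_eq fun r => ((MvPolynomial.aeval _).commutes r).symm
  haveI : IsScalarTower R E E' := IsScalarTower.of_algebraMap_eq fun r => by
    rw [IsScalarTower.algebraMap_apply R D E, ← IsScalarTower.algebraMap_apply D E E',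
      ← IsScalarTower.algebraMap_apply R D E']
  letI : Algebra T T' := MvPolynomial.algebraMvPolynomial
  letI algTE'' : Algebra T E' := ((algebraMap T' E').comp (algebraMap T T')).toAlgebra
  haveI : IsScalarTower T T' E' := IsScalarTower.of_algebraMap_eq fun _ => rfl
  haveI : IsScalarTower R T E' := IsScalarTower.of_algebraMap_eq fun r => by
    show _ = algebraMap T' E' (MvPolynomial.map (algebraMap R R') (MvPolynomial.C r))
    rw [MvPolynomial.map_C, IsScalarTower.algebraMap_apply R R' E']
    exact IsScalarTower.algebraMap_apply R' T' E' _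
  haveI : IsScalarTower T E E' := IsScalarTower.of_algebraMap_eq' (by
    refine MvPolynomial.ringHom_ext (fun r => ?_) fun i => ?_
    · show algebraMap T E' (algebraMap R T r) = algebraMap E E' (algebraMap T E (algebraMap R T r))
      rw [← IsScalarTower.algebraMap_apply R T E', ← IsScalarTower.algebraMap_apply R T E,
        ← IsScalarTower.algebraMap_apply R E E']
    · show MvPolynomial.aeval (fun i => algebraMap D' E' (algebraMap D D' (f i)))
          (MvPolynomial.map (algebraMap R R') (MvPolynomial.X i)) =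
        algebraMap E E' (MvPolynomial.aeval (fun i => algebraMap D E (f i)) (MvPolynomial.X i))
      rw [MvPolynomial.map_X, MvPolynomial.aeval_X, MvPolynomial.aeval_X,
        ← IsScalarTower.algebraMap_apply D E E', ← IsScalarTower.algebraMap_apply D D' E'])
  haveI : Algebra.IsPushout D E D' E' :=
    haveI : IsLocalization (Algebra.algebraMapSubmonoid D' (Submonoid.powers g)) E' := by
      rw [Algebra.algebraMapSubmonoid_powers]; infer_instance
    (Algebra.isPushout_of_isLocalization (Submonoid.powers g) E D' E').symm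
  haveI hDp : Algebra.IsPushout R D R' D' := Algebra.IsPushout.symm inferInstance
  haveI hEp : Algebra.IsPushout R E R' E' :=
    (Algebra.IsPushout.comp_iff (R := R) (S := D) (R' := R') (S' := D') (T := E) (T' := E')).2 inferInstance
  haveI : IsScalarTower R T' E' := IsScalarTower.of_algebraMap_eq fun r => by
    rw [IsScalarTower.algebraMap_apply R R' E', IsScalarTower.algebraMap_apply R R' T',
      ← IsScalarTower.algebraMap_apply R' T' E']
  haveI hTp : Algebra.IsPushout T E T' E' :=
    (Algebra.IsPushout.comp_iff (R := R) (S := T) (R' := R') (S' := T') (T := E) (T' := E')).1 hEp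
  haveI : Module.Flat T E := RingHom.flat_algebraMap_iff.1 hflat
  haveI : Algebra.IsPushout T T' E E' := hTp.symm
  exact RingHom.flat_algebraMap_iff.2
    (Module.Flat.isBaseChange T T' E E' (Algebra.IsPushout.out (R := T) (S := T') (R' := E) (S' := E')))

/-- A family defining a flat map modulo a square-zero ideal defines a flat map. -/
theorem flat_aeval_lift {A' D1 D2 : Type u} [CommRing A'] [CommRing D1] [CommRing D2] (I : Ideal A') (hI : I ^ 2 = ⊥)
    [Algebra A' D1] [Algebra (A' ⧸ I) D2] [Algebra A' D2] [IsScalarTower A' (A' ⧸ I) D2] [Algebra D1 D2]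
    [IsScalarTower A' D1 D2] [Algebra.IsPushout A' (A' ⧸ I) D1 D2] [Algebra.FinitePresentation A' D1]
    [Module.Flat A' D1] {n : ℕ} (g' : D1) (f' : Fin n → D1)
    (hflat : (MvPolynomial.aeval (fun i => algebraMap D2 (Localization.Away (algebraMap D1 D2 g'))
        (algebraMap D1 D2 (f' i))) :
      MvPolynomial (Fin n) (A' ⧸ I) →ₐ[A' ⧸ I] Localization.Away (algebraMap D1 D2 g')).Flat) :
    (MvPolynomial.aeval (fun i => algebraMap D1 (Localization.Away g') (f' i)) :
      MvPolynomial (Fin n) A' →ₐ[A'] Localization.Away g').Flat := by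
  let E := Localization.Away g'
  let E2 := Localization.Away (algebraMap D1 D2 g')
  let S := MvPolynomial (Fin n) A'
  let T2 := MvPolynomial (Fin n) (A' ⧸ I)
  letI algSE : Algebra S E := (MvPolynomial.aeval fun i => algebraMap D1 E (f' i)).toRingHom.toAlgebra
  haveI : IsScalarTower A' S E := IsScalarTower.of_algebraMap_eq fun r => ((MvPolynomial.aeval _).commutes r).symm
  letI algTE : Algebra T2 E2 :=
    (MvPolynomial.aeval fun i => algebraMap D2 E2 (algebraMap D1 D2 (f' i))).toRingHom.toAlgebra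
  haveI : IsScalarTower (A' ⧸ I) T2 E2 :=
    IsScalarTower.of_algebraMap_eq fun r => ((MvPolynomial.aeval _).commutes r).symm
  letI algEE : Algebra E E2 := (IsLocalization.Away.map E E2 (algebraMap D1 D2) g').toAlgebra
  haveI : IsScalarTower D1 E E2 := IsScalarTower.of_algebraMap_eq fun x => by
    rw [IsScalarTower.algebraMap_apply D1 D2 E2]
    show _ = IsLocalization.Away.map E E2 (algebraMap D1 D2) g' (algebraMap D1 E x)
    rw [IsLocalization.Away.map, IsLocalization.map_eq]
  haveI : IsScalarTower A' E E2 := IsScalarTower.of_algebraMap_eq fun r => by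
    rw [IsScalarTower.algebraMap_apply A' D1 E, ← IsScalarTower.algebraMap_apply D1 E E2,
      ← IsScalarTower.algebraMap_apply A' D1 E2]
  letI : Algebra S T2 := MvPolynomial.algebraMvPolynomial
  letI algSE2 : Algebra S E2 := ((algebraMap T2 E2).comp (algebraMap S T2)).toAlgebra
  haveI : IsScalarTower S T2 E2 := IsScalarTower.of_algebraMap_eq fun _ => rfl
  haveI : IsScalarTower A' S E2 := IsScalarTower.of_algebraMap_eq fun r => by
    show _ = algebraMap T2 E2 (MvPolynomial.map (algebraMap A' (A' ⧸ I)) (MvPolynomial.C r))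
    rw [MvPolynomial.map_C, IsScalarTower.algebraMap_apply A' (A' ⧸ I) E2]
    exact IsScalarTower.algebraMap_apply (A' ⧸ I) T2 E2 _
  haveI : IsScalarTower S E E2 := IsScalarTower.of_algebraMap_eq' (by
    refine MvPolynomial.ringHom_ext (fun r => ?_) fun i => ?_
    · show algebraMap S E2 (algebraMap A' S r) = algebraMap E E2 (algebraMap S E (algebraMap A' S r))
      rw [← IsScalarTower.algebraMap_apply A' S E2, ← IsScalarTower.algebraMap_apply A' S E,
        ← IsScalarTower.algebraMap_apply A' E E2]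
    · show MvPolynomial.aeval (fun i => algebraMap D2 E2 (algebraMap D1 D2 (f' i)))
          (MvPolynomial.map (algebraMap A' (A' ⧸ I)) (MvPolynomial.X i)) =
        algebraMap E E2 (MvPolynomial.aeval (fun i => algebraMap D1 E (f' i)) (MvPolynomial.X i))
      rw [MvPolynomial.map_X, MvPolynomial.aeval_X, MvPolynomial.aeval_X,
        ← IsScalarTower.algebraMap_apply D1 E E2, ← IsScalarTower.algebraMap_apply D1 D2 E2])
  haveI : Algebra.IsPushout D1 E D2 E2 :=
    haveI : IsLocalization (Algebra.algebraMapSubmonoid D2 (Submonoid.powers g')) E2 := by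
      rw [Algebra.algebraMapSubmonoid_powers]; infer_instance
    (Algebra.isPushout_of_isLocalization (Submonoid.powers g') E D2 E2).symm
  haveI hDp : Algebra.IsPushout A' D1 (A' ⧸ I) D2 := Algebra.IsPushout.symm inferInstance
  haveI hEp : Algebra.IsPushout A' E (A' ⧸ I) E2 :=
    (Algebra.IsPushout.comp_iff (R := A') (S := D1) (R' := A' ⧸ I) (S' := D2) (T := E) (T' := E2)).2 inferInstance
  haveI : IsScalarTower A' T2 E2 := IsScalarTower.of_algebraMap_eq fun r => by
    rw [IsScalarTower.algebraMap_apply A' (A' ⧸ I) E2, IsScalarTower.algebraMap_apply A' (A' ⧸ I) T2,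
      ← IsScalarTower.algebraMap_apply (A' ⧸ I) T2 E2]
  haveI : Algebra.IsPushout S T2 E E2 :=
    ((Algebra.IsPushout.comp_iff (R := A') (S := S) (R' := A' ⧸ I) (S' := T2) (T := E) (T' := E2)).1 hEp).symm
  haveI : Module.Flat T2 E2 := RingHom.flat_algebraMap_iff.1 hflat
  haveI : Module.Flat T2 (T2 ⊗[S] E) :=
    Module.Flat.of_linearEquiv (Algebra.IsPushout.equiv S T2 E E2).toLinearEquiv
  let Q := S ⧸ I.map (algebraMap A' S)
  letI algTQ : Algebra T2 Q := (MvPolynomial.eval₂Hom
    (Ideal.Quotient.lift I ((Ideal.Quotient.mk _).comp (algebraMap A' S)) fun a ha =>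
      Ideal.Quotient.eq_zero_iff_mem.2 (Ideal.mem_map_of_mem _ ha))
    fun i => Ideal.Quotient.mk _ (MvPolynomial.X i)).toAlgebra
  haveI : IsScalarTower S T2 Q := IsScalarTower.of_algebraMap_eq' (by
    refine MvPolynomial.ringHom_ext (fun r => ?_) fun i => ?_
    · show Ideal.Quotient.mk _ (MvPolynomial.C r) =
        MvPolynomial.eval₂Hom _ _ (MvPolynomial.map (algebraMap A' (A' ⧸ I)) (MvPolynomial.C r))
      rw [MvPolynomial.map_C, MvPolynomial.eval₂Hom_C]
      rfl
    · show Ideal.Quotient.mk _ (MvPolynomial.X i) =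
        MvPolynomial.eval₂Hom _ _ (MvPolynomial.map (algebraMap A' (A' ⧸ I)) (MvPolynomial.X i))
      rw [MvPolynomial.map_X, MvPolynomial.eval₂Hom_X'])
  have hY : Module.Flat Q (Q ⊗[S] E) :=
    Module.Flat.of_linearEquiv (TensorProduct.AlgebraTensorModule.cancelBaseChange S T2 Q Q E).symm
  haveI : Algebra.FinitePresentation D1 E := IsLocalization.Away.finitePresentation g'
  haveI : Algebra.FinitePresentation A' E := Algebra.FinitePresentation.trans A' D1 E
  haveI : Module.Flat D1 E := IsLocalization.flat E (Submonoid.powers g')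
  haveI : Module.Flat A' E := Module.Flat.trans A' D1 E
  exact RingHom.flat_algebraMap_iff.2 (Groth.Agent.S0422.result (R := A') (S := S) (S' := E) (M := E) I
    (fun a ha => ⟨2, by rw [← Ideal.mem_bot, ← hI]; exact Ideal.pow_mem_pow ha 2⟩) hY)

/-- A quotient by a family of elements of a basic open, reducing to a free finite algebra. -/
theorem exists_basis_lift {A' : Type u} [CommRing A'] (I : Ideal A') (hI : I ^ 2 = ⊥) {B' B0 : Type u} [CommRing B']
    [Algebra A' B'] [Module.Flat A' B'] [CommRing B0] [Algebra (A' ⧸ I) B0] {d : ℕ}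
    (b0 : Module.Basis (Fin d) (A' ⧸ I) B0) (π : B' →+* B0) (hπ : Function.Surjective π)
    (hπc : ∀ a, π (algebraMap A' B' a) = algebraMap (A' ⧸ I) B0 (Ideal.Quotient.mk I a))
    (ι : B0 →+* B' ⧸ I.map (algebraMap A' B')) (hι : ∀ x, ι (π x) = Ideal.Quotient.mk _ x) :
    ∃ bb : Module.Basis (Fin d) A' B', (Str.ofBasis bb).map (Ideal.Quotient.mk I) = Str.ofBasis b0 ∧
      ∀ x j, Ideal.Quotient.mk I (bb.repr x j) = b0.repr (π x) j := by
  choose b' hb' using fun i => hπ (b0 i)
  have hlin : ∀ (a : A') (x : B'), π (a • x) = Ideal.Quotient.mk I a • π x := fun a x => by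
    rw [Algebra.smul_def, map_mul, hπc, ← Algebra.smul_def]
  have hker : ∀ x, π x = 0 → x ∈ I • (⊤ : Submodule A' B') := fun x hx => by
    rw [Ideal.smul_top_eq_map]
    show x ∈ I.map (algebraMap A' B')
    rw [← Ideal.Quotient.eq_zero_iff_mem, ← hι, hx, map_zero]
  have hI0 : ∀ x ∈ I • (⊤ : Submodule A' B'), π x = 0 := fun x hx => by
    refine Submodule.smul_induction_on hx (fun a ha y _ => ?_) fun y z hy hz => by rw [map_add, hy, hz, add_zero]
    rw [hlin, Ideal.Quotient.eq_zero_iff_mem.2 ha, zero_smul]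
  obtain ⟨bb, hbb⟩ := exists_basis_of_squareZero I hI b' (fun x => by
      choose c hc using fun i => Ideal.Quotient.mk_surjective (b0.repr (π x) i)
      refine ⟨c, hker _ ?_⟩
      simp only [map_sub, map_sum, hlin, hc, hb', b0.sum_repr, sub_self])
    fun c hc i => by
      have e1 : π (∑ l, c l • b' l) = ∑ l, Ideal.Quotient.mk I (c l) • b0 l := by simp only [map_sum, hlin, hb']
      have e := congrArg (fun z => b0.repr z i) (e1.symm.trans (hI0 _ hc))
      simp only [b0.repr_sum_self, map_zero, Finsupp.zero_apply] at e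
      exact Ideal.Quotient.eq_zero_iff_mem.1 e
  have hrepr : ∀ x j, Ideal.Quotient.mk I (bb.repr x j) = b0.repr (π x) j := fun x j => by
    have e1 : π (∑ l, bb.repr x l • bb l) = ∑ l, Ideal.Quotient.mk I (bb.repr x l) • b0 l := by
      simp only [map_sum, hlin, hbb, hb']
    conv_rhs => rw [← bb.sum_repr x, e1, b0.repr_sum_self]
  refine ⟨bb, ?_, hrepr⟩
  ext i
  · show Ideal.Quotient.mk I (bb.repr 1 i) = b0.repr 1 i
    rw [hrepr, map_one]
  · rename_i j k
    show Ideal.Quotient.mk I (bb.repr (bb i * bb j) k) = b0.repr (b0 i * b0 j) k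
    rw [hrepr, map_mul, hbb, hbb, hb', hb']

attribute [local instance] Algebra.TensorProduct.rightAlgebra

section LiftModel

variable {A R C B A0 : Type u} [CommRing A] [CommRing R] [CommRing C] [CommRing B] [CommRing A0]
    [Algebra A R] [Algebra A C] [Algebra R B] [Algebra A B] [IsScalarTower A R B] [Algebra A A0] [Algebra R A0]
    [IsScalarTower A R A0]

/-- The map of the reduced algebra to the reduced quotient. -/
theorem exists_reduction (φ : C →ₐ[A] B) (φR : R ⊗[A] C →ₐ[R] B) (hφR : ∀ c, φR (1 ⊗ₜ c) = φ c) :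
    ∃ γ : A0 ⊗[A] C →+* A0 ⊗[R] B, (∀ x c, γ (x ⊗ₜ c) = x ⊗ₜ φ c) ∧
      ∀ z, γ (Algebra.TensorProduct.map (Algebra.ofId R A0) (AlgHom.id A C) z) =
        (1 : A0) ⊗ₜ[R] φR z := by
  letI : Algebra A (A0 ⊗[R] B) := Algebra.compHom _ (algebraMap A A0)
  let γ : A0 ⊗[A] C →ₐ[A] A0 ⊗[R] B := Algebra.TensorProduct.productMap
    { algebraMap A0 (A0 ⊗[R] B) with commutes' := fun a => rfl }
    { (Algebra.TensorProduct.includeRight : B →ₐ[R] A0 ⊗[R] B).toRingHom.comp φ.toRingHom with
      commutes' := fun a => by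
        show (1 : A0) ⊗ₜ[R] φ (algebraMap A C a) = algebraMap A A0 a ⊗ₜ (1 : B)
        rw [φ.commutes, IsScalarTower.algebraMap_apply A R B, IsScalarTower.algebraMap_apply A R A0,
          Algebra.algebraMap_eq_smul_one (A := B), TensorProduct.tmul_smul, TensorProduct.smul_tmul', Algebra.smul_def,
          mul_one] }
  have hγ : ∀ x c, γ.toRingHom (x ⊗ₜ c) = x ⊗ₜ φ c := fun x c => by
    show γ (x ⊗ₜ c) = _
    rw [Algebra.TensorProduct.productMap_apply_tmul]
    show (x ⊗ₜ[R] (1 : B)) * ((1 : A0) ⊗ₜ[R] φ c) = _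
    rw [Algebra.TensorProduct.tmul_mul_tmul, mul_one, one_mul]
  refine ⟨γ.toRingHom, hγ, fun z => ?_⟩
  induction z using TensorProduct.induction_on with
  | zero => simp
  | tmul r c =>
    have e1 : φR (r ⊗ₜ c) = r • φ c := by rw [← hφR, ← map_smul, TensorProduct.smul_tmul', smul_eq_mul, mul_one]
    rw [Algebra.TensorProduct.map_tmul, hγ, e1, TensorProduct.tmul_smul, TensorProduct.smul_tmul', Algebra.smul_def,
      mul_one]
    rfl
  | add x y hx hy => simp only [map_add, hx, hy, TensorProduct.tmul_add]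

/-- The reduced quotient maps to every algebra in which the family vanishes. -/
theorem exists_retraction {n : ℕ} (φ : C →ₐ[A] B) (φR : R ⊗[A] C →ₐ[R] B) (hφR : ∀ c, φR (1 ⊗ₜ c) = φ c)
    (hsurj : Function.Surjective φR) (g : R ⊗[A] C) (f : Fin n → R ⊗[A] C)
    (hker : ∀ z, φR z = 0 → algebraMap (R ⊗[A] C) (Localization.Away g) z ∈
      Ideal.span (Set.range fun i => algebraMap (R ⊗[A] C) (Localization.Away g) (f i)))
    {W : Type u} [CommRing W] (wA : A0 →+* W) (δ : A0 ⊗[A] C →+* W) (hδ : ∀ x, δ (x ⊗ₜ 1) = wA x)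
    (hδg : IsUnit (δ (Algebra.TensorProduct.map (Algebra.ofId R A0) (AlgHom.id A C) g)))
    (hδf : ∀ i, δ (Algebra.TensorProduct.map (Algebra.ofId R A0) (AlgHom.id A C) (f i)) = 0) :
    ∃ ι : A0 ⊗[R] B →+* W, (∀ x, ι (x ⊗ₜ 1) = wA x) ∧ ∀ x c, ι (x ⊗ₜ φ c) = δ (x ⊗ₜ c) := by
  let τ : R ⊗[A] C →ₐ[R] A0 ⊗[A] C := Algebra.TensorProduct.map (Algebra.ofId R A0) (AlgHom.id A C)
  have hg' : IsUnit ((δ.comp τ.toRingHom) g) := hδg
  have hδ0 : ∀ z ∈ RingHom.ker φR.toRingHom, (δ.comp τ.toRingHom) z = 0 := by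
    intro z hz
    have h2 : Ideal.span (Set.range fun i => algebraMap (R ⊗[A] C) (Localization.Away g) (f i)) ≤
        RingHom.ker (IsLocalization.Away.lift g hg') := by
      rw [Ideal.span_le]
      rintro _ ⟨i, rfl⟩
      show IsLocalization.Away.lift g hg' (algebraMap (R ⊗[A] C) _ (f i)) = 0
      rw [IsLocalization.Away.lift_eq]
      exact hδf i
    have h3 := RingHom.mem_ker.1 (h2 (hker z hz))
    rwa [IsLocalization.Away.lift_eq] at h3
  let β : B →+* W := φR.toRingHom.liftOfSurjective hsurj ⟨δ.comp τ.toRingHom, hδ0⟩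
  have hβ : ∀ z, β (φR z) = δ (τ z) := fun z =>
    RingHom.liftOfRightInverse_comp_apply φR.toRingHom _ _ ⟨δ.comp τ.toRingHom, hδ0⟩ z
  letI algRW : Algebra R W := (wA.comp (algebraMap R A0)).toAlgebra
  let ι : A0 ⊗[R] B →ₐ[R] W := Algebra.TensorProduct.productMap
    { wA with commutes' := fun r => rfl }
    { β with
      commutes' := fun r => by
        show β (algebraMap R B r) = wA (algebraMap R A0 r)
        rw [← φR.commutes, hβ, τ.commutes]
        exact hδ _ }
  refine ⟨ι.toRingHom, fun x => ?_, fun x c => ?_⟩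
  · show ι (x ⊗ₜ 1) = _
    rw [Algebra.TensorProduct.productMap_apply_tmul, map_one, mul_one]
    rfl
  · show ι (x ⊗ₜ φ c) = _
    rw [Algebra.TensorProduct.productMap_apply_tmul]
    show wA x * β (φ c) = _
    rw [← hφR, hβ, Algebra.TensorProduct.map_tmul, map_one, ← hδ, ← map_mul, Algebra.TensorProduct.tmul_mul_tmul,
      mul_one]
    simp

end LiftModel

/-- The kernel of the reduction of a base change. -/
theorem ker_map_mk {A A' C : Type u} [CommRing A] [CommRing A'] [CommRing C] [Algebra A A'] [Algebra A C] (I : Ideal A') :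
    RingHom.ker (Algebra.TensorProduct.map (Ideal.Quotient.mkₐ A' I) (AlgHom.id A C)).toRingHom =
      I.map (algebraMap A' (A' ⊗[A] C)) := by
  have h : ∀ z, Algebra.TensorProduct.map (Ideal.Quotient.mkₐ A' I) (AlgHom.id A C) z =
      Algebra.TensorProduct.map (Ideal.Quotient.mkₐ A I) (AlgHom.id A C) z := fun z => by
    induction z using TensorProduct.induction_on with
    | zero => simp
    | tmul a c => rfl
    | add x y hx hy => simp only [map_add, hx, hy]
  have h1 : RingHom.ker (Algebra.TensorProduct.map (Ideal.Quotient.mkₐ A I) (AlgHom.id A C)) =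
      (RingHom.ker (Ideal.Quotient.mkₐ A I)).map (Algebra.TensorProduct.includeLeft : A' →ₐ[A] A' ⊗[A] C) :=
    Algebra.TensorProduct.rTensor_ker (Ideal.Quotient.mkₐ A I) (Ideal.Quotient.mkₐ_surjective A I)
  have h2 : RingHom.ker (Ideal.Quotient.mkₐ A I) = I := Ideal.Quotient.mkₐ_ker A I
  rw [h2] at h1
  refine Ideal.ext fun z => ?_
  rw [RingHom.mem_ker]
  show Algebra.TensorProduct.map _ _ z = 0 ↔ _
  rw [h, ← RingHom.mem_ker, h1]
  rfl

/-- Lifting a model of a finite quotient along a square-zero ideal. -/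
theorem exists_lift_model {A R C B A' : Type u} [CommRing A] [CommRing R] [CommRing C] [CommRing B] [CommRing A']
    [Algebra A R] [Algebra A C] [Algebra.FinitePresentation A C] [Module.Flat A C] [Algebra R B] [Algebra A B]
    [IsScalarTower A R B] [Algebra A A'] {d : ℕ} (b : Module.Basis (Fin d) R B) (φ : C →ₐ[A] B)
    (φR : R ⊗[A] C →ₐ[R] B) (hφR : ∀ c, φR (1 ⊗ₜ c) = φ c) (hsurj : Function.Surjective φR)
    {n : ℕ} (g : R ⊗[A] C) (f : Fin n → R ⊗[A] C) (hg : IsUnit (φR g)) (hf : ∀ i, φR (f i) = 0)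
    (hflat : (MvPolynomial.aeval (fun i => algebraMap (R ⊗[A] C) (Localization.Away g) (f i)) :
      MvPolynomial (Fin n) R →ₐ[R] Localization.Away g).Flat)
    (hker : ∀ z, φR z = 0 → algebraMap (R ⊗[A] C) (Localization.Away g) z ∈
      Ideal.span (Set.range fun i => algebraMap (R ⊗[A] C) (Localization.Away g) (f i)))
    (I : Ideal A') (hI : I ^ 2 = ⊥) (ρ : R →ₐ[A] A' ⧸ I) :
    ∃ (s : Str A' d) (φ' : C →+* s.Alg),
      s.map (Ideal.Quotient.mk I) = (Str.ofBasis b).map ρ.toRingHom ∧
      (∀ a, φ' (algebraMap A C a) = algebraMap A' s.Alg (algebraMap A A' a)) ∧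
      ∀ c j, Ideal.Quotient.mk I (s.basis.repr (φ' c) j) = ρ (b.repr (φ c) j) := by
  classical
  letI algR0 : Algebra R (A' ⧸ I) := ρ.toRingHom.toAlgebra
  haveI : IsScalarTower A R (A' ⧸ I) := IsScalarTower.of_algebraMap_eq fun a => (ρ.commutes a).symm
  let D0 := R ⊗[A] C
  let D1 := A' ⊗[A] C
  let D2 := (A' ⧸ I) ⊗[A] C
  let pA : D1 →ₐ[A'] D2 := Algebra.TensorProduct.map (Ideal.Quotient.mkₐ A' I) (AlgHom.id A C)
  let τ : D0 →ₐ[R] D2 := Algebra.TensorProduct.map (Algebra.ofId R (A' ⧸ I)) (AlgHom.id A C)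
  have hpA : Function.Surjective pA :=
    Algebra.TensorProduct.map_surjective _ _ (Ideal.Quotient.mkₐ_surjective A' I) Function.surjective_id
  letI alg02 : Algebra D0 D2 := τ.toRingHom.toAlgebra
  letI alg12 : Algebra D1 D2 := pA.toRingHom.toAlgebra
  haveI : IsScalarTower R D0 D2 := IsScalarTower.of_algebraMap_eq fun r => (τ.commutes r).symm
  haveI : IsScalarTower A' D1 D2 := IsScalarTower.of_algebraMap_eq fun r => (pA.commutes r).symm
  haveI : IsScalarTower A D0 D2 := IsScalarTower.of_algebraMap_eq fun a => by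
    rw [IsScalarTower.algebraMap_apply A R D2, IsScalarTower.algebraMap_apply A R D0,
      ← IsScalarTower.algebraMap_apply R D0 D2]
  haveI : IsScalarTower A D1 D2 := IsScalarTower.of_algebraMap_eq fun a => by
    rw [IsScalarTower.algebraMap_apply A A' D2, IsScalarTower.algebraMap_apply A A' D1,
      ← IsScalarTower.algebraMap_apply A' D1 D2]
  haveI : IsScalarTower C D0 D2 := IsScalarTower.of_algebraMap_eq fun c => by
    show (1 : A' ⧸ I) ⊗ₜ c = τ ((1 : R) ⊗ₜ c)
    rw [Algebra.TensorProduct.map_tmul, map_one]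
    rfl
  haveI : IsScalarTower C D1 D2 := IsScalarTower.of_algebraMap_eq fun c => by
    show (1 : A' ⧸ I) ⊗ₜ c = pA ((1 : A') ⊗ₜ c)
    rw [Algebra.TensorProduct.map_tmul, map_one]
    rfl
  haveI : Algebra.IsPushout R (A' ⧸ I) D0 D2 :=
    (Algebra.IsPushout.comp_iff (R := A) (S := R) (R' := C) (S' := D0) (T := A' ⧸ I) (T' := D2)).1 inferInstance
  haveI : Algebra.IsPushout A' (A' ⧸ I) D1 D2 :=
    (Algebra.IsPushout.comp_iff (R := A) (S := A') (R' := C) (S' := D1) (T := A' ⧸ I) (T' := D2)).1 inferInstance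
  obtain ⟨g', hg'⟩ := hpA (τ g)
  choose f' hf' using fun i => hpA (τ (f i))
  have hflat2 := flat_aeval_baseChange (R := R) (R' := A' ⧸ I) (D' := D2) g f hflat
  have hflat1 : (MvPolynomial.aeval (fun i => algebraMap D1 (Localization.Away g') (f' i)) :
      MvPolynomial (Fin n) A' →ₐ[A'] Localization.Away g').Flat := by
    refine flat_aeval_lift (D2 := D2) I hI g' f' ?_
    have e : (fun i => algebraMap D1 D2 (f' i)) = fun i => algebraMap D0 D2 (f i) := funext hf'
    have key : ∀ (h : D2), h = algebraMap D0 D2 g →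
        (MvPolynomial.aeval (fun i => algebraMap D2 (Localization.Away h) (algebraMap D1 D2 (f' i))) :
          MvPolynomial (Fin n) (A' ⧸ I) →ₐ[A' ⧸ I] Localization.Away h).Flat := by
      rintro h rfl
      simp only [congrFun e]
      exact hflat2
    exact key _ hg'
  -- the lifted algebra
  suffices key : ∀ (E : Type u) [CommRing E] [Algebra D1 E] [Algebra A' E] [IsScalarTower A' D1 E]
      [IsLocalization.Away g' E],
      (MvPolynomial.aeval (fun i => algebraMap D1 E (f' i)) : MvPolynomial (Fin n) A' →ₐ[A'] E).Flat →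
      ∃ (s : Str A' d) (φ' : C →+* s.Alg),
        s.map (Ideal.Quotient.mk I) = (Str.ofBasis b).map ρ.toRingHom ∧
        (∀ a, φ' (algebraMap A C a) = algebraMap A' s.Alg (algebraMap A A' a)) ∧
        ∀ c j, Ideal.Quotient.mk I (s.basis.repr (φ' c) j) = ρ (b.repr (φ c) j) by
    exact key (Localization.Away g') hflat1
  intro E _ _ _ _ _ hflat1
  let S := MvPolynomial (Fin n) A'
  letI algSE : Algebra S E := (MvPolynomial.aeval fun i => algebraMap D1 E (f' i)).toRingHom.toAlgebra
  haveI : IsScalarTower A' S E := IsScalarTower.of_algebraMap_eq fun r => ((MvPolynomial.aeval _).commutes r).symm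
  haveI : Module.Flat S E := RingHom.flat_algebraMap_iff.1 hflat1
  letI algSA : Algebra S A' := (MvPolynomial.aeval fun _ => (0 : A')).toRingHom.toAlgebra
  let B' := A' ⊗[S] E
  let incE : E →+* B' := (Algebra.TensorProduct.includeRight : E →ₐ[S] B').toRingHom
  let toB' : D1 →+* B' := incE.comp (algebraMap D1 E)
  have hincS : ∀ s : S, incE (algebraMap S E s) = algebraMap A' B' (algebraMap S A' s) := fun s => by
    show (1 : A') ⊗ₜ[S] algebraMap S E s = algebraMap S A' s ⊗ₜ (1 : E)
    rw [Algebra.algebraMap_eq_smul_one, TensorProduct.tmul_smul, TensorProduct.smul_tmul', Algebra.smul_def, mul_one]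
  have htoB'A : ∀ a, toB' (algebraMap A' D1 a) = algebraMap A' B' a := fun a => by
    show incE (algebraMap D1 E (algebraMap A' D1 a)) = _
    rw [← IsScalarTower.algebraMap_apply A' D1 E, IsScalarTower.algebraMap_apply A' S E, hincS]
    congr 1
    exact (MvPolynomial.aeval fun _ => (0 : A')).commutes a
  have htoB'f : ∀ i, toB' (f' i) = 0 := fun i => by
    show incE (algebraMap D1 E (f' i)) = 0
    rw [show algebraMap D1 E (f' i) = algebraMap S E (MvPolynomial.X i) from
      (MvPolynomial.aeval_X (R := A') (fun i => algebraMap D1 E (f' i)) i).symm, hincS]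
    show algebraMap A' B' (MvPolynomial.aeval (fun _ => (0 : A')) (MvPolynomial.X i)) = 0
    rw [MvPolynomial.aeval_X, map_zero]
  -- the reduction
  let B0 := (A' ⧸ I) ⊗[R] B
  let b0 : Module.Basis (Fin d) (A' ⧸ I) B0 := Algebra.TensorProduct.basis (A' ⧸ I) b
  obtain ⟨γ, hγt, hγτ⟩ := exists_reduction (A0 := A' ⧸ I) φ φR hφR
  have hgu : IsUnit ((γ.comp pA.toRingHom) g') := by
    show IsUnit (γ (pA g'))
    rw [hg', hγτ]
    exact hg.map (Algebra.TensorProduct.includeRight : B →ₐ[R] B0)
  let sA0 : A' →+* B0 := (algebraMap (A' ⧸ I) B0).comp (Ideal.Quotient.mk I)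
  letI algSB0 : Algebra S B0 := (sA0.comp (algebraMap S A')).toAlgebra
  have hgl : (IsLocalization.Away.lift g' hgu).comp (algebraMap S E) = sA0.comp (algebraMap S A') := by
    refine MvPolynomial.ringHom_ext (fun a => ?_) fun i => ?_
    · rw [RingHom.comp_apply, RingHom.comp_apply,
        show algebraMap S E (MvPolynomial.C a) = algebraMap A' E a from (MvPolynomial.aeval _).commutes a,
        show algebraMap S A' (MvPolynomial.C a) = a from (MvPolynomial.aeval fun _ => (0 : A')).commutes a,
        IsScalarTower.algebraMap_apply A' D1 E, IsLocalization.Away.lift_eq, RingHom.comp_apply]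
      show γ (Ideal.Quotient.mk I a ⊗ₜ (1 : C)) = _
      rw [hγt, map_one]
      rfl
    · rw [RingHom.comp_apply, RingHom.comp_apply,
        show algebraMap S E (MvPolynomial.X i) = algebraMap D1 E (f' i) from MvPolynomial.aeval_X _ i,
        show algebraMap S A' (MvPolynomial.X i) = 0 from MvPolynomial.aeval_X (R := A') (fun _ => (0 : A')) i,
        IsLocalization.Away.lift_eq, RingHom.comp_apply, map_zero]
      have e1 : pA.toRingHom (f' i) = τ (f i) := hf' i
      rw [e1, hγτ, hf, TensorProduct.tmul_zero]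
  let π1 : E →ₐ[S] B0 := { IsLocalization.Away.lift g' hgu with commutes' := RingHom.congr_fun hgl }
  let π2 : A' →ₐ[S] B0 := { sA0 with commutes' := fun s => rfl }
  let π : B' →+* B0 := (Algebra.TensorProduct.productMap π2 π1).toRingHom
  have hπD : ∀ z, π (toB' z) = γ (pA z) := fun z => by
    show Algebra.TensorProduct.productMap π2 π1 ((1 : A') ⊗ₜ[S] algebraMap D1 E z) = _
    rw [Algebra.TensorProduct.productMap_apply_tmul, map_one, one_mul]
    exact IsLocalization.Away.lift_eq g' hgu z
  have hπc : ∀ a, π (algebraMap A' B' a) = algebraMap (A' ⧸ I) B0 (Ideal.Quotient.mk I a) := fun a => by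
    show Algebra.TensorProduct.productMap π2 π1 (a ⊗ₜ[S] (1 : E)) = _
    rw [Algebra.TensorProduct.productMap_apply_tmul, map_one, mul_one]
    rfl
  have hπs : Function.Surjective π := fun x => by
    induction x using TensorProduct.induction_on with
    | zero => exact ⟨0, map_zero _⟩
    | tmul x y =>
      obtain ⟨z, rfl⟩ := hsurj y
      obtain ⟨a, rfl⟩ := Ideal.Quotient.mk_surjective x
      obtain ⟨w, hw⟩ := hpA (τ z)
      refine ⟨algebraMap A' B' a * toB' w, ?_⟩
      rw [map_mul, hπc, hπD, hw, hγτ]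
      show (Ideal.Quotient.mk I a ⊗ₜ[R] (1 : B)) * ((1 : A' ⧸ I) ⊗ₜ[R] φR z) = _
      rw [Algebra.TensorProduct.tmul_mul_tmul, mul_one, one_mul]
    | add x y hx hy =>
      obtain ⟨a, rfl⟩ := hx; obtain ⟨c, rfl⟩ := hy
      exact ⟨a + c, map_add _ _ _⟩
  -- the retraction
  let pW : B' →+* B' ⧸ I.map (algebraMap A' B') := Ideal.Quotient.mk _
  have hpker : ∀ z ∈ RingHom.ker pA.toRingHom, (pW.comp toB') z = 0 := by
    intro z hz
    have e : RingHom.ker pA.toRingHom = I.map (algebraMap A' D1) := ker_map_mk I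
    rw [e] at hz
    refine RingHom.mem_ker.1 ((Ideal.map_le_iff_le_comap.2 fun a ha => ?_) hz : z ∈ RingHom.ker (pW.comp toB'))
    rw [Ideal.mem_comap, RingHom.mem_ker, RingHom.comp_apply, htoB'A]
    exact Ideal.Quotient.eq_zero_iff_mem.2 (Ideal.mem_map_of_mem _ ha)
  let δ : D2 →+* B' ⧸ I.map (algebraMap A' B') := pA.toRingHom.liftOfSurjective hpA ⟨pW.comp toB', hpker⟩
  have hδp : ∀ z, δ (pA z) = pW (toB' z) := fun z =>
    RingHom.liftOfRightInverse_comp_apply pA.toRingHom _ _ ⟨pW.comp toB', hpker⟩ z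
  let wA : (A' ⧸ I) →+* B' ⧸ I.map (algebraMap A' B') :=
    Ideal.Quotient.lift I (pW.comp (algebraMap A' B')) fun a ha =>
      Ideal.Quotient.eq_zero_iff_mem.2 (Ideal.mem_map_of_mem _ ha)
  obtain ⟨ι, hι1, hι2⟩ := exists_retraction φ φR hφR hsurj g f hker wA δ (fun x => by
      obtain ⟨a, rfl⟩ := Ideal.Quotient.mk_surjective x
      show δ (pA (algebraMap A' D1 a)) = _
      rw [hδp, htoB'A]
      rfl)
    (by rw [show Algebra.TensorProduct.map (Algebra.ofId R (A' ⧸ I)) (AlgHom.id A C) g = pA g' from hg'.symm, hδp]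
        exact ((IsLocalization.Away.algebraMap_isUnit g').map incE).map pW)
    (fun i => by
      rw [show Algebra.TensorProduct.map (Algebra.ofId R (A' ⧸ I)) (AlgHom.id A C) (f i) = pA (f' i) from (hf' i).symm,
        hδp, htoB'f, map_zero])
  have hιγ : ∀ z, ι (γ z) = δ z := fun z => by
    induction z using TensorProduct.induction_on with
    | zero => simp
    | tmul x c => rw [hγt, hι2]
    | add x y hx hy => simp only [map_add, hx, hy]
  have hE : ι.comp (π.comp incE) = pW.comp incE :=
    IsLocalization.ringHom_ext (Submonoid.powers g') (RingHom.ext fun z => by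
      show ι (π (toB' z)) = pW (toB' z)
      rw [hπD, hιγ, hδp])
  have hι : ∀ x, ι (π x) = Ideal.Quotient.mk _ x := fun x => by
    induction x using TensorProduct.induction_on with
    | zero => simp
    | tmul a e =>
      have e1 : (a ⊗ₜ[S] e : B') = algebraMap A' B' a * incE e := by
        show _ = (a ⊗ₜ[S] (1 : E)) * ((1 : A') ⊗ₜ[S] e)
        rw [Algebra.TensorProduct.tmul_mul_tmul, mul_one, one_mul]
      rw [e1, map_mul, map_mul, map_mul, hπc]
      congr 1
      · show ι (Ideal.Quotient.mk I a ⊗ₜ[R] (1 : B)) = _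
        rw [hι1]
        rfl
      · exact RingHom.congr_fun hE e
    | add x y hx hy => simp only [map_add, hx, hy]
  haveI : Module.Flat A' B' := inferInstance
  obtain ⟨bb, hs, hrepr⟩ := exists_basis_lift I hI b0 π hπs hπc ι hι
  have hb0 : ∀ i, b0 i = (1 : A' ⧸ I) ⊗ₜ[R] b i := fun i => Algebra.TensorProduct.basis_apply b i
  have hb0r : ∀ x k, b0.repr ((1 : A' ⧸ I) ⊗ₜ[R] x) k = ρ (b.repr x k) := fun x k => by
    show (Algebra.TensorProduct.basis (A' ⧸ I) b).repr ((1 : A' ⧸ I) ⊗ₜ[R] x) k = _
    rw [Algebra.TensorProduct.basis_repr_tmul, one_smul, Finsupp.mapRange_apply]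
    rfl
  refine ⟨Str.ofBasis bb, ((Str.ofBasisEquiv bb).symm.toRingEquiv.toRingHom).comp
    (toB'.comp (Algebra.TensorProduct.includeRight : C →ₐ[A] D1).toRingHom), ?_, fun a => ?_, fun c j => ?_⟩
  · rw [hs]
    ext i
    · show b0.repr 1 i = ρ (b.repr 1 i)
      rw [Algebra.TensorProduct.one_def, Algebra.TensorProduct.basis_repr_tmul]
      simp [RingHom.algebraMap_toAlgebra]
    · rename_i j k
      show b0.repr (b0 i * b0 j) k = ρ (b.repr (b i * b j) k)
      rw [hb0 i, hb0 j, Algebra.TensorProduct.tmul_mul_tmul, mul_one, hb0r]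
  · show (Str.ofBasisEquiv bb).symm (toB' ((Algebra.TensorProduct.includeRight : C →ₐ[A] D1) (algebraMap A C a))) = _
    rw [AlgHom.commutes, IsScalarTower.algebraMap_apply A A' D1, htoB'A, AlgEquiv.commutes]
  · have e : (Str.ofBasis bb).basis.repr ((Str.ofBasisEquiv bb).symm (toB' ((1 : A') ⊗ₜ c))) =
        bb.repr (toB' ((1 : A') ⊗ₜ c)) := by
      obtain ⟨y, hy⟩ := (Str.ofBasisEquiv bb).surjective (toB' ((1 : A') ⊗ₜ c))
      rw [← hy, AlgEquiv.symm_apply_apply]
      conv_rhs => rw [← (Str.ofBasis bb).basis.sum_repr y]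
      refine Finsupp.ext fun l => ?_
      simp only [map_sum, map_smul, Str.ofBasisEquiv, Str.algEquiv_basis, bb.repr_self, Finsupp.smul_single,
        smul_eq_mul, mul_one, Finsupp.univ_sum_single]
    show Ideal.Quotient.mk I ((Str.ofBasis bb).basis.repr ((Str.ofBasisEquiv bb).symm (toB' ((1 : A') ⊗ₜ c))) j) = _
    rw [e, hrepr, hπD, Algebra.TensorProduct.map_tmul, map_one]
    show b0.repr (γ ((1 : A' ⧸ I) ⊗ₜ c)) j = _
    rw [hγt, hb0r]

end Groth.L09.Artin
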