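import Groth.Agent.L20.FibreDescent
import Groth.Agent.L20.FlatLocusOpen
import Mathlib.RingTheory.Nakayama
import Mathlib.RingTheory.Flat.EquationalCriterion
import Mathlib.RingTheory.Localization.BaseChange
import Mathlib.RingTheory.Flat.Localization
import Mathlib.RingTheory.Smooth.Basic
import Mathlib.RingTheory.FiniteStability
import Mathlib.RingTheory.TensorProduct.MvPolynomial
import Mathlib.RingTheory.Finiteness.ModuleFinitePresentation

/-!
A finite quotient of a flat algebra over a local ring whose closed fibre is cut out by a family defining a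
flat map from a polynomial algebra is cut out by such a family.
-/

set_option autoImplicit false

universe u

open TensorProduct

namespace Groth.L09.Artin

section

variable {R B : Type u} [CommRing R] [IsLocalRing R] [CommRing B] [Algebra R B] [Module.Finite R B]

/-- An element of a finite algebra over a local ring is a unit if it is one modulo the maximal ideal. -/
theorem isUnit_of_isUnit_quotient {b : B}
    (h : IsUnit (Ideal.Quotient.mk ((IsLocalRing.maximalIdeal R).map (algebraMap R B)) b)) : IsUnit b := by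
  by_contra hb
  obtain ⟨M, hM, hbM⟩ := Ideal.exists_le_maximal (Ideal.span {b}) (fun e => hb (Ideal.span_singleton_eq_top.1 e))
  haveI := hM
  haveI : Algebra.IsIntegral R B := Algebra.IsIntegral.of_finite R B
  have hle : (IsLocalRing.maximalIdeal R).map (algebraMap R B) ≤ M := by
    rw [Ideal.map_le_iff_le_comap]
    exact (IsLocalRing.eq_maximalIdeal (Ideal.isMaximal_comap_of_isIntegral_of_isMaximal M)).ge
  obtain ⟨c, hc⟩ := h.exists_right_inv
  obtain ⟨c, rfl⟩ := Ideal.Quotient.mk_surjective c
  rw [← map_mul, ← map_one (Ideal.Quotient.mk ((IsLocalRing.maximalIdeal R).map (algebraMap R B))),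
    Ideal.Quotient.eq] at hc
  have hbM' : b ∈ M := hbM (Ideal.subset_span rfl)
  apply hM.ne_top
  rw [Ideal.eq_top_iff_one]
  have := M.sub_mem (M.mul_mem_right c hbM') (hle hc)
  simpa using this

end

attribute [local instance] Algebra.TensorProduct.rightAlgebra

/-- The flat model of a finite quotient. -/
theorem exists_flat_model {A R C K B : Type u} [CommRing A] [CommRing R] [IsLocalRing R] [CommRing C] [Field K]
    [CommRing B] [Algebra A R] [Algebra A C] [Algebra.FinitePresentation A C] [Module.Flat A C]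
    [Algebra R K] [Algebra A K] [IsScalarTower A R K] (hK : Function.Surjective (algebraMap R K))
    [Algebra R B] [Algebra A B] [IsScalarTower A R B] [Module.Free R B] [Module.Finite R B] (φ : C →ₐ[A] B)
    (φK : K ⊗[A] C →ₐ[K] K ⊗[R] B) (hφK : ∀ c, φK (1 ⊗ₜ c) = 1 ⊗ₜ φ c)
    (hsurj : Function.Surjective φK)
    (n : ℕ) (h : K ⊗[A] C) (t : Fin n → K ⊗[A] C) (hunit : IsUnit (φK h)) (ht : ∀ i, φK (t i) = 0)
    (hker : ∀ z, φK z = 0 → algebraMap (K ⊗[A] C) (Localization.Away h) z ∈
      Ideal.span (Set.range fun i => algebraMap (K ⊗[A] C) (Localization.Away h) (t i)))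
    (hflat : (MvPolynomial.aeval (fun i => algebraMap (K ⊗[A] C) (Localization.Away h) (t i)) :
      MvPolynomial (Fin n) K →ₐ[K] Localization.Away h).Flat)
    (φR : R ⊗[A] C →ₐ[R] B) (hφR : ∀ c, φR (1 ⊗ₜ c) = φ c) :
    ∃ (g : R ⊗[A] C) (f : Fin n → R ⊗[A] C), IsUnit (φR g) ∧ Function.Surjective φR ∧ (∀ i, φR (f i) = 0) ∧
      (MvPolynomial.aeval (fun i => algebraMap (R ⊗[A] C) (Localization.Away g) (f i)) :
        MvPolynomial (Fin n) R →ₐ[R] Localization.Away g).Flat ∧
      ∀ z, φR z = 0 → algebraMap (R ⊗[A] C) (Localization.Away g) z ∈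
        Ideal.span (Set.range fun i => algebraMap (R ⊗[A] C) (Localization.Away g) (f i)) := by
  classical
  let D := R ⊗[A] C
  let m := IsLocalRing.maximalIdeal R
  have hmK : RingHom.ker (algebraMap R K) = m :=
    IsLocalRing.eq_maximalIdeal (RingHom.ker_isMaximal_of_surjective _ hK)
  let π : D →ₐ[A] K ⊗[A] C := Algebra.TensorProduct.map (IsScalarTower.toAlgHom A R K) (AlgHom.id A C)
  have hπ : Function.Surjective π := Algebra.TensorProduct.map_surjective _ _ hK Function.surjective_id
  have hπker : RingHom.ker π = m.map (algebraMap R D) := by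
    rw [← hmK]
    exact Algebra.TensorProduct.rTensor_ker (IsScalarTower.toAlgHom A R K) hK
  let q : B →+* K ⊗[R] B := (Algebra.TensorProduct.includeRight : B →ₐ[R] K ⊗[R] B).toRingHom
  have hq : Function.Surjective q := fun z => by
    induction z using TensorProduct.induction_on with
    | zero => exact ⟨0, map_zero _⟩
    | tmul a b =>
      obtain ⟨r, rfl⟩ := hK a
      refine ⟨r • b, ?_⟩
      show (1 : K) ⊗ₜ[R] (r • b) = algebraMap R K r ⊗ₜ b
      rw [TensorProduct.tmul_smul, TensorProduct.smul_tmul', Algebra.smul_def, mul_one]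
    | add x y hx hy =>
      obtain ⟨a, rfl⟩ := hx; obtain ⟨b, rfl⟩ := hy
      exact ⟨a + b, map_add _ _ _⟩
  have hqker : RingHom.ker q = m.map (algebraMap R B) := by
    have h1 : Function.Surjective (Algebra.ofId R K) := hK
    refine le_antisymm ?_ ?_
    · intro x hx
      let J := m.map (algebraMap R B)
      let eK : (R ⧸ RingHom.ker (Algebra.ofId R K)) ≃ₐ[R] K := Ideal.quotientKerAlgEquivOfSurjective h1
      let gK : K →ₐ[R] B ⧸ J := (Ideal.Quotient.liftₐ (RingHom.ker (Algebra.ofId R K)) (Algebra.ofId R (B ⧸ J))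
        (fun r hr => by
          refine Ideal.Quotient.eq_zero_iff_mem.2 (Ideal.mem_map_of_mem _ ?_)
          rw [← hmK]
          exact hr)).comp eK.symm.toAlgHom
      have e1 : Algebra.TensorProduct.productMap gK (Ideal.Quotient.mkₐ R J) ((1 : K) ⊗ₜ[R] x) = 0 := by
        have hx0 : q x = 0 := RingHom.mem_ker.1 hx
        have hx1 : ((1 : K) ⊗ₜ[R] x : K ⊗[R] B) = 0 := hx0
        exact (congrArg (Algebra.TensorProduct.productMap gK (Ideal.Quotient.mkₐ R J)) hx1).trans (map_zero _)
      rw [Algebra.TensorProduct.productMap_apply_tmul, map_one, one_mul] at e1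
      exact Ideal.Quotient.eq_zero_iff_mem.1 e1
    · rw [Ideal.map_le_iff_le_comap]
      intro r hr
      rw [Ideal.mem_comap, RingHom.mem_ker]
      show (1 : K) ⊗ₜ[R] algebraMap R B r = 0
      rw [Algebra.algebraMap_eq_smul_one, TensorProduct.tmul_smul, TensorProduct.smul_tmul', Algebra.smul_def,
        mul_one, RingHom.mem_ker.1 (hmK.symm ▸ hr : r ∈ RingHom.ker (algebraMap R K)), TensorProduct.zero_tmul]
  have hcomm : ∀ d, φK (π d) = q (φR d) := fun d => by
    induction d using TensorProduct.induction_on with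
    | zero => simp
    | tmul r c =>
      have e1 : (r ⊗ₜ c : D) = r • ((1 : R) ⊗ₜ c) := by rw [TensorProduct.smul_tmul', smul_eq_mul, mul_one]
      show φK (algebraMap R K r ⊗ₜ c) = (1 : K) ⊗ₜ[R] φR (r ⊗ₜ c)
      rw [e1, map_smul, hφR, TensorProduct.tmul_smul, TensorProduct.smul_tmul', Algebra.smul_def, mul_one,
        show (algebraMap R K r ⊗ₜ c : K ⊗[A] C) = algebraMap R K r • ((1 : K) ⊗ₜ c) by
          rw [TensorProduct.smul_tmul', smul_eq_mul, mul_one], map_smul, hφK, TensorProduct.smul_tmul',
        smul_eq_mul, mul_one]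
    | add x y hx hy => simp only [map_add, hx, hy]
  -- the map to the quotient is surjective
  have hφRs : Function.Surjective φR := by
    have hle : (⊤ : Submodule R B) ≤ φR.toLinearMap.range ⊔ m • (⊤ : Submodule R B) := fun b _ => by
      obtain ⟨z, hz⟩ := hsurj (q b)
      obtain ⟨d, rfl⟩ := hπ z
      rw [hcomm, eq_comm, ← sub_eq_zero, ← map_sub, ← RingHom.mem_ker, hqker] at hz
      rw [← add_sub_cancel (φR d) b]
      refine Submodule.add_mem_sup ⟨d, rfl⟩ ?_
      rw [Ideal.smul_top_eq_map]
      exact hz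
    exact LinearMap.range_eq_top.1 (top_le_iff.1 (Submodule.le_of_le_smul_of_le_jacobson_bot Module.Finite.fg_top
      (IsLocalRing.maximalIdeal_le_jacobson _) hle))
  obtain ⟨σ, hσ⟩ := Module.projective_lifting_property φR.toLinearMap LinearMap.id hφRs
  have hinter : ∀ z, φR z = 0 → z ∈ m.map (algebraMap R D) → z ∈ m.map (algebraMap R D) * RingHom.ker φR := by
    intro z hz hzm
    have e : z = z - σ (φR z) := by rw [hz, map_zero, sub_zero]
    rw [e]
    clear e hz
    have hzm' : z ∈ m • (⊤ : Submodule R D) := by rw [Ideal.smul_top_eq_map]; exact hzm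
    refine Submodule.smul_induction_on hzm' (fun r hr d _ => ?_) (fun x y hx hy => ?_)
    · rw [map_smul, map_smul, ← smul_sub, Algebra.smul_def]
      refine Ideal.mul_mem_mul (Ideal.mem_map_of_mem _ hr) (RingHom.mem_ker.2 ?_)
      have := LinearMap.congr_fun hσ (φR d)
      simp only [LinearMap.coe_comp, Function.comp_apply, AlgHom.toLinearMap_apply, LinearMap.id_apply] at this
      rw [map_sub, this, sub_self]
    · rw [map_add, map_add, add_sub_add_comm]
      exact Ideal.add_mem _ hx hy
  -- lifts
  have hlift : ∀ i, ∃ d : D, π d = t i ∧ φR d = 0 := fun i => by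
    obtain ⟨d, hd⟩ := hπ (t i)
    have e1 : φR d ∈ m.map (algebraMap R B) := by
      rw [← hqker, RingHom.mem_ker, ← hcomm, hd, ht]
    have e2 : ∃ d', d' ∈ m.map (algebraMap R D) ∧ φR d' = φR d := by
      have e3 : φR d ∈ (m.map (algebraMap R D)).map φR.toRingHom := by
        rw [Ideal.map_map, show φR.toRingHom.comp (algebraMap R D) = algebraMap R B from φR.comp_algebraMap]; exact e1
      obtain ⟨d', hd', e⟩ := (Ideal.mem_map_iff_of_surjective φR.toRingHom hφRs).1 e3
      exact ⟨d', hd', e⟩
    obtain ⟨d', hd', e⟩ := e2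
    refine ⟨d - d', ?_, by rw [map_sub, e, sub_self]⟩
    rw [← hπker] at hd'
    rw [map_sub, RingHom.mem_ker.1 hd', sub_zero, hd]
  choose f hπf hφf using hlift
  obtain ⟨h₀, rfl⟩ := hπ h
  have hh₀ : IsUnit (φR h₀) := by
    refine isUnit_of_isUnit_quotient (R := R) ?_
    rw [hcomm] at hunit
    let e : B ⧸ m.map (algebraMap R B) →+* K ⊗[R] B := Ideal.Quotient.lift _ q fun x hx => by
      rw [← hqker] at hx; exact hx
    have hebij : Function.Bijective e := by
      refine ⟨(injective_iff_map_eq_zero e).2 fun x hx => ?_, fun z => ?_⟩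
      · obtain ⟨x, rfl⟩ := Ideal.Quotient.mk_surjective x
        rw [Ideal.Quotient.eq_zero_iff_mem, ← hqker]
        exact hx
      · obtain ⟨b, rfl⟩ := hq z
        exact ⟨Ideal.Quotient.mk _ b, rfl⟩
    exact (isUnit_map_iff (RingEquiv.ofBijective e hebij) _).1 hunit
  -- the open flat locus
  letI algS : Algebra (MvPolynomial (Fin n) R) D := (MvPolynomial.aeval f).toRingHom.toAlgebra
  haveI : IsScalarTower R (MvPolynomial (Fin n) R) D :=
    IsScalarTower.of_algebraMap_eq fun r => ((MvPolynomial.aeval f).commutes r).symm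
  haveI : Algebra.FinitePresentation R D := inferInstance
  haveI : Algebra.FinitePresentation (MvPolynomial (Fin n) R) D :=
    Algebra.FinitePresentation.of_restrict_scalars_finitePresentation R (MvPolynomial (Fin n) R) D
  have hopen := Groth.L20.isOpen_flatLocus (R := MvPolynomial (Fin n) R) (S := D) (M := D)
  have hpts : ∀ p : PrimeSpectrum D, m.map (algebraMap R D) ≤ p.asIdeal → h₀ ∉ p.asIdeal →
      Module.Flat (MvPolynomial (Fin n) R) (LocalizedModule p.asIdeal.primeCompl D) := by
    intro p hp hph
    let q' : Ideal (K ⊗[A] C) := p.asIdeal.map π.toRingHom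
    haveI hq'p : q'.IsPrime := Ideal.map_isPrime_of_surjective (f := π.toRingHom) hπ (by
      show RingHom.ker π ≤ _
      rw [hπker]; exact hp)
    have hq'c : q'.comap π.toRingHom = p.asIdeal := by
      show (p.asIdeal.map π.toRingHom).comap π.toRingHom = _
      rw [Ideal.comap_map_of_surjective π.toRingHom hπ, sup_eq_left]
      show RingHom.ker π ≤ _
      rw [hπker]; exact hp
    letI algDK : Algebra D (K ⊗[A] C) := π.toRingHom.toAlgebra
    haveI : IsScalarTower R K (K ⊗[A] C) := inferInstance
    haveI : IsScalarTower R D (K ⊗[A] C) := IsScalarTower.of_algebraMap_eq fun r => by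
      show algebraMap R K r ⊗ₜ (1 : C) = π (r ⊗ₜ 1)
      rfl
    letI algKS : Algebra (MvPolynomial (Fin n) K) (K ⊗[A] C) := (MvPolynomial.aeval t).toRingHom.toAlgebra
    haveI : IsScalarTower K (MvPolynomial (Fin n) K) (K ⊗[A] C) :=
      IsScalarTower.of_algebraMap_eq fun r => ((MvPolynomial.aeval t).commutes r).symm
    letI : Algebra (MvPolynomial (Fin n) R) (MvPolynomial (Fin n) K) := MvPolynomial.algebraMvPolynomial
    letI algSC : Algebra (MvPolynomial (Fin n) R) (K ⊗[A] C) :=
      ((algebraMap (MvPolynomial (Fin n) K) (K ⊗[A] C)).comp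
        (algebraMap (MvPolynomial (Fin n) R) (MvPolynomial (Fin n) K))).toAlgebra
    haveI : IsScalarTower (MvPolynomial (Fin n) R) (MvPolynomial (Fin n) K) (K ⊗[A] C) :=
      IsScalarTower.of_algebraMap_eq fun r => rfl
    haveI : IsScalarTower (MvPolynomial (Fin n) R) D (K ⊗[A] C) := IsScalarTower.of_algebraMap_eq' (by
      refine MvPolynomial.ringHom_ext (fun r => ?_) fun i => ?_
      · show MvPolynomial.aeval t (MvPolynomial.map (algebraMap R K) (MvPolynomial.C r)) =
          π (MvPolynomial.aeval f (MvPolynomial.C r))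
        rw [MvPolynomial.map_C, MvPolynomial.aeval_C, MvPolynomial.aeval_C]
        rfl
      · show MvPolynomial.aeval t (MvPolynomial.map (algebraMap R K) (MvPolynomial.X i)) =
          π (MvPolynomial.aeval f (MvPolynomial.X i))
        rw [MvPolynomial.map_X, MvPolynomial.aeval_X, MvPolynomial.aeval_X, hπf])
    haveI hpoP : Algebra.IsPushout A K C (K ⊗[A] C) := inferInstance
    haveI : Algebra.IsPushout A R C D := inferInstance
    haveI : IsScalarTower A R (K ⊗[A] C) := IsScalarTower.of_algebraMap_eq fun a => by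
      show algebraMap A (K ⊗[A] C) a = algebraMap K (K ⊗[A] C) (algebraMap R K (algebraMap A R a))
      rw [← IsScalarTower.algebraMap_apply A R K, ← IsScalarTower.algebraMap_apply A K (K ⊗[A] C)]
    haveI : IsScalarTower C D (K ⊗[A] C) := IsScalarTower.of_algebraMap_eq fun c => by
      show (1 : K) ⊗ₜ c = π ((1 : R) ⊗ₜ c)
      rw [Algebra.TensorProduct.map_tmul, map_one]
      rfl
    haveI : Algebra.IsPushout R K D (K ⊗[A] C) :=
      (Algebra.IsPushout.comp_iff (R := A) (S := R) (R' := C) (S' := D) (T := K) (T' := K ⊗[A] C)).1 hpoP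
    have hh' : π h₀ ∉ q' := fun hh => hph (hq'c ▸ hh)
    haveI : IsScalarTower (MvPolynomial (Fin n) K) (K ⊗[A] C) (Localization.Away (π h₀)) := inferInstance
    haveI : Module.Flat (MvPolynomial (Fin n) K) (Localization.Away (π h₀)) := by
      have e : (MvPolynomial.aeval (fun i => algebraMap (K ⊗[A] C) (Localization.Away (π h₀)) (t i)) :
          MvPolynomial (Fin n) K →ₐ[K] Localization.Away (π h₀)) =
        (IsScalarTower.toAlgHom K (K ⊗[A] C) (Localization.Away (π h₀))).comp (MvPolynomial.aeval t) :=
        MvPolynomial.algHom_ext fun i => by simp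
      rw [e] at hflat
      refine RingHom.flat_algebraMap_iff.1 ?_
      rw [IsScalarTower.algebraMap_eq (MvPolynomial (Fin n) K) (K ⊗[A] C) (Localization.Away (π h₀))]
      exact hflat
    letI algAt : Algebra (Localization.Away (π h₀)) (Localization.AtPrime q') :=
      (IsLocalization.Away.lift (π h₀) (g := algebraMap (K ⊗[A] C) (Localization.AtPrime q'))
        (IsLocalization.map_units (Localization.AtPrime q') (⟨π h₀, hh'⟩ : q'.primeCompl))).toAlgebra
    haveI : IsScalarTower (K ⊗[A] C) (Localization.Away (π h₀)) (Localization.AtPrime q') :=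
      IsScalarTower.of_algebraMap_eq fun x => (IsLocalization.Away.lift_eq (π h₀) _ x).symm
    haveI : IsScalarTower (MvPolynomial (Fin n) K) (Localization.Away (π h₀)) (Localization.AtPrime q') :=
      IsScalarTower.of_algebraMap_eq fun x => by
        rw [IsScalarTower.algebraMap_apply (MvPolynomial (Fin n) K) (K ⊗[A] C) (Localization.AtPrime q'),
          IsScalarTower.algebraMap_apply (MvPolynomial (Fin n) K) (K ⊗[A] C) (Localization.Away (π h₀)),
          ← IsScalarTower.algebraMap_apply (K ⊗[A] C) (Localization.Away (π h₀)) (Localization.AtPrime q')]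
    haveI : IsLocalization
        (Algebra.algebraMapSubmonoid (Localization.Away (π h₀)) q'.primeCompl) (Localization.AtPrime q') :=
      IsLocalization.isLocalization_of_submonoid_le (Localization.Away (π h₀)) (Localization.AtPrime q')
        (Submonoid.powers (π h₀)) q'.primeCompl (Submonoid.powers_le.2 hh')
    haveI : Module.Flat (Localization.Away (π h₀)) (Localization.AtPrime q') :=
      IsLocalization.flat _ (Algebra.algebraMapSubmonoid (Localization.Away (π h₀)) q'.primeCompl)
    haveI hfl : Module.Flat (MvPolynomial (Fin n) K) (Localization.AtPrime q') :=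
      Module.Flat.trans _ (Localization.Away (π h₀)) _
    haveI : Module.Flat R (LocalizedModule p.asIdeal.primeCompl D) := by
      haveI : Module.Flat R D := inferInstance
      exact Module.Flat.trans R D _
    exact Groth.L20.FibreCrit.flat_of_fibre (R := R) (S := MvPolynomial (Fin n) R) (U := D) (M := D) (K := K)
      (B := MvPolynomial (Fin n) K) (C := K ⊗[A] C) p.asIdeal
      (by rw [hmK]; exact le_antisymm (Ideal.map_le_iff_le_comap.1 hp)
            (IsLocalRing.le_maximalIdeal (Ideal.comap_ne_top _ p.isPrime.ne_top)))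
      q' hq'c (Module.Flat.of_linearEquiv
        ({ TensorProduct.rid D (Localization.AtPrime q') with
          map_smul' := fun a z => by
            induction z using TensorProduct.induction_on with
            | zero => simp
            | tmul x d =>
              show TensorProduct.rid D (Localization.AtPrime q') ((a • x) ⊗ₜ[D] d) =
                a • TensorProduct.rid D (Localization.AtPrime q') (x ⊗ₜ[D] d)
              rw [TensorProduct.rid_tmul, TensorProduct.rid_tmul, Algebra.smul_def, Algebra.smul_def, Algebra.smul_def,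
                Algebra.smul_def]
              ring
            | add u v hu hv => simp_all } : Localization.AtPrime q' ⊗[D] D ≃ₗ[MvPolynomial (Fin n) K] Localization.AtPrime q'))
  obtain ⟨J, hJ⟩ : ∃ J : Ideal D, PrimeSpectrum.zeroLocus (J : Set D) =
      {p : PrimeSpectrum D | Module.Flat (MvPolynomial (Fin n) R) (LocalizedModule p.asIdeal.primeCompl D)}ᶜ :=
    ⟨_, ((PrimeSpectrum.isClosed_iff_zeroLocus_radical_ideal _).1 hopen.isClosed_compl).choose_spec.2.symm⟩
  obtain ⟨k, hk⟩ : h₀ ∈ (J ⊔ m.map (algebraMap R D)).radical := by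
    rw [Ideal.radical_eq_sInf, Ideal.mem_sInf]
    rintro p ⟨hp, hpp⟩
    by_contra hne
    have h1 : (⟨p, hpp⟩ : PrimeSpectrum D) ∈ PrimeSpectrum.zeroLocus (J : Set D) :=
      (PrimeSpectrum.mem_zeroLocus _ _).2 ((le_sup_left : J ≤ J ⊔ m.map (algebraMap R D)).trans hp)
    rw [hJ] at h1
    exact h1 (hpts ⟨p, hpp⟩ (le_sup_right.trans hp) hne)
  obtain ⟨j, hj, mm, hmm, hjm⟩ := Submodule.mem_sup.1 hk
  have hj₀ : IsUnit (φR j) := by
    refine isUnit_of_isUnit_quotient (R := R) ?_
    have e1 : φR mm ∈ m.map (algebraMap R B) := by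
      have := Ideal.mem_map_of_mem φR.toRingHom hmm
      rwa [Ideal.map_map, show φR.toRingHom.comp (algebraMap R D) = algebraMap R B from φR.comp_algebraMap] at this
    have e2 : Ideal.Quotient.mk (m.map (algebraMap R B)) (φR j) =
        Ideal.Quotient.mk _ (φR h₀) ^ k := by
      rw [← map_pow, Ideal.Quotient.eq, ← map_pow, ← hjm, map_add, sub_add_cancel_left]
      exact neg_mem e1
    rw [e2]
    exact (hh₀.map _).pow k
  -- generators
  let I := RingHom.ker φR
  have hIfg : I.FG := by
    haveI : Module.FinitePresentation R B := Module.finitePresentation_of_projective R B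
    haveI : Algebra.FinitePresentation R B := (Module.FinitePresentation.iff_finitePresentation_of_finite R B).1 inferInstance
    exact Algebra.FinitePresentation.ker_fG_of_surjective φR hφRs
  let Dh := Localization.Away h₀
  let F : Ideal D := Ideal.span (Set.range f)
  let Fh : Ideal Dh := F.map (algebraMap D Dh)
  have hφK0 : ∀ z ∈ I, π z ∈ RingHom.ker φK := fun z hz => by
    rw [RingHom.mem_ker, hcomm, RingHom.mem_ker.1 hz, map_zero]
  have key : ∀ z ∈ I, algebraMap D Dh z ∈ Fh ⊔ (m.map (algebraMap R Dh)) * I.map (algebraMap D Dh) := by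
    intro z hz
    have hz' := hker (π z) (hφK0 z hz)
    have e : Ideal.span (Set.range fun i => algebraMap (K ⊗[A] C) (Localization.Away (π h₀)) (t i)) =
        (F.map π.toRingHom).map (algebraMap (K ⊗[A] C) (Localization.Away (π h₀))) := by
      rw [Ideal.map_span, Ideal.map_span, ← Set.range_comp, ← Set.range_comp]
      congr 1
      exact congrArg Set.range (funext fun i => by simp [hπf])
    rw [e, IsLocalization.algebraMap_mem_map_algebraMap_iff (Submonoid.powers (π h₀))] at hz'
    obtain ⟨_, ⟨N, rfl⟩, hN⟩ := hz'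
    have hN' : π (h₀ ^ N * z) ∈ F.map π.toRingHom := by rwa [map_mul, map_pow]
    obtain ⟨y, hy, hye⟩ := (Ideal.mem_map_iff_of_surjective π.toRingHom hπ).1 hN'
    have hyI : y ∈ I := by
      have : F ≤ I := Ideal.span_le.2 (by rintro _ ⟨i, rfl⟩; exact hφf i)
      exact this hy
    have hd : h₀ ^ N * z - y ∈ m.map (algebraMap R D) * I := by
      refine hinter _ ?_ ?_
      · rw [map_sub, map_mul, RingHom.mem_ker.1 hz, RingHom.mem_ker.1 hyI, mul_zero, sub_zero]
      · rw [← hπker, RingHom.mem_ker, map_sub, sub_eq_zero]; exact hye.symm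
    have hu : IsUnit (algebraMap D Dh (h₀ ^ N)) := by
      rw [map_pow]; exact (IsLocalization.Away.algebraMap_isUnit h₀).pow N
    refine (Ideal.unit_mul_mem_iff_mem _ hu).1 ?_
    rw [← map_mul, ← sub_add_cancel (h₀ ^ N * z) y, map_add]
    refine Ideal.add_mem _ (Ideal.mem_sup_right ?_) (Ideal.mem_sup_left (Ideal.mem_map_of_mem _ hy))
    rw [IsScalarTower.algebraMap_eq R D Dh, ← Ideal.map_map, ← Ideal.map_mul]
    exact Ideal.mem_map_of_mem _ hd
  let mkF := Ideal.Quotient.mk Fh
  let Ibar : Ideal (Dh ⧸ Fh) := (I.map (algebraMap D Dh)).map mkF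
  obtain ⟨e, he1, he2⟩ := Submodule.exists_sub_one_mem_and_smul_eq_zero_of_fg_of_le_smul
    ((m.map (algebraMap R Dh)).map mkF) Ibar (Ideal.FG.map (Ideal.FG.map hIfg _) _) (by
      rw [smul_eq_mul, ← Ideal.map_mul]
      refine Ideal.map_le_iff_le_comap.2 (Ideal.map_le_iff_le_comap.2 fun z hz => ?_)
      rw [Ideal.mem_comap, Ideal.mem_comap]
      have := Ideal.mem_map_of_mem mkF (key z hz)
      rwa [Ideal.map_sup, Ideal.map_quotient_self, bot_sup_eq] at this)
  obtain ⟨e', he'⟩ := Ideal.Quotient.mk_surjective e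
  obtain ⟨⟨e₀, ⟨_, M, rfl⟩⟩, he₀⟩ := IsLocalization.surj (Submonoid.powers h₀) e'
  let ext : Dh →+* B := IsLocalization.Away.lift h₀ (g := φR.toRingHom) hh₀
  have hext : ∀ d, ext (algebraMap D Dh d) = φR d := IsLocalization.Away.lift_eq h₀ hh₀
  have hextF : ∀ y ∈ Fh, ext y = 0 := fun y hy => by
    have hle : Fh ≤ RingHom.ker ext := by
      rw [Ideal.map_le_iff_le_comap, Ideal.span_le]
      rintro _ ⟨i, rfl⟩
      rw [SetLike.mem_coe, Ideal.mem_comap, RingHom.mem_ker, hext, hφf]
    exact hle hy
  have he₀u : IsUnit (φR e₀) := by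
    refine isUnit_of_isUnit_quotient (R := R) ?_
    have e1 : ext e' - 1 ∈ m.map (algebraMap R B) := by
      rw [← he', ← map_one mkF, ← map_sub] at he1
      obtain ⟨w, hw, hwe⟩ := (Ideal.mem_map_iff_of_surjective mkF Ideal.Quotient.mk_surjective).1 he1
      have hw' : ext w ∈ m.map (algebraMap R B) := by
        have := Ideal.mem_map_of_mem ext hw
        rwa [Ideal.map_map, show ext.comp (algebraMap R Dh) = algebraMap R B from RingHom.ext fun r => by
          rw [RingHom.comp_apply, IsScalarTower.algebraMap_apply R D Dh, hext, φR.commutes]] at this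
      have h0 := hextF _ ((Ideal.Quotient.eq).1 hwe)
      rw [map_sub, map_sub, map_one, sub_eq_zero] at h0
      rw [← h0]; exact hw'
    have e2 : φR e₀ = ext e' * φR h₀ ^ M := by
      rw [← hext e₀, ← he₀, map_mul, hext, map_pow]
    rw [e2, map_mul, map_pow, show Ideal.Quotient.mk (m.map (algebraMap R B)) (ext e') = 1 from by
      rw [← map_one (Ideal.Quotient.mk (m.map (algebraMap R B))), Ideal.Quotient.eq]; exact e1, one_mul]
    exact (hh₀.map _).pow M
  let g := h₀ * e₀ * j
  refine ⟨g, f, by rw [map_mul, map_mul]; exact (hh₀.mul he₀u).mul hj₀, hφRs, hφf, ?_, fun z hz => ?_⟩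
  · let Dg := Localization.Away g
    haveI : IsScalarTower (MvPolynomial (Fin n) R) D Dg := inferInstance
    haveI : Module.Flat (MvPolynomial (Fin n) R) Dg := by
      refine Module.flat_of_isLocalized_maximal Dg Dg (fun P _ => Localization.AtPrime P)
        (fun P _ => Algebra.linearMap Dg (Localization.AtPrime P)) fun P hP => ?_
      let p : Ideal D := P.comap (algebraMap D Dg)
      haveI : p.IsPrime := Ideal.IsPrime.comap _
      have hgp : g ∉ p := fun hh => hP.ne_top (Ideal.eq_top_of_isUnit_mem P hh (IsLocalization.Away.algebraMap_isUnit g))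
      have hflp : Module.Flat (MvPolynomial (Fin n) R) (LocalizedModule p.primeCompl D) := by
        by_contra hne
        have h1 : (⟨p, inferInstance⟩ : PrimeSpectrum D) ∈ PrimeSpectrum.zeroLocus (J : Set D) := by
          rw [hJ]; exact hne
        exact hgp (p.mul_mem_left _ ((PrimeSpectrum.mem_zeroLocus _ _).1 h1 hj))
      haveI : IsLocalization.AtPrime (Localization.AtPrime P) p :=
        IsLocalization.isLocalization_isLocalization_atPrime_isLocalization (Submonoid.powers g) (Localization.AtPrime P) P
      haveI : IsLocalizedModule p.primeCompl (Algebra.linearMap D (Localization.AtPrime P)) :=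
        (isLocalizedModule_iff_isLocalization' p.primeCompl _).2 inferInstance
      exact Module.Flat.of_linearEquiv
        ((IsLocalizedModule.iso p.primeCompl (Algebra.linearMap D (Localization.AtPrime P))).symm.restrictScalars
          (MvPolynomial (Fin n) R))
    have e : (MvPolynomial.aeval (fun i => algebraMap D Dg (f i)) : MvPolynomial (Fin n) R →ₐ[R] Dg) =
        (IsScalarTower.toAlgHom R D Dg).comp (MvPolynomial.aeval f) := MvPolynomial.algHom_ext fun i => by simp
    rw [e]
    exact RingHom.flat_algebraMap_iff.2 ‹Module.Flat (MvPolynomial (Fin n) R) Dg›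
  · have hz1 : e' * algebraMap D Dh z ∈ Fh := by
      rw [← Ideal.Quotient.eq_zero_iff_mem, map_mul, he']
      exact he2 _ (Ideal.mem_map_of_mem _ (Ideal.mem_map_of_mem _ (RingHom.mem_ker.2 hz)))
    have hz2 : algebraMap D Dh (e₀ * z) ∈ Fh := by
      rw [map_mul, ← he₀, mul_right_comm]
      exact Fh.mul_mem_right _ hz1
    rw [IsLocalization.algebraMap_mem_map_algebraMap_iff (Submonoid.powers h₀)] at hz2
    obtain ⟨_, ⟨N, rfl⟩, hN⟩ := hz2
    have hu : IsUnit (algebraMap D (Localization.Away g) (h₀ ^ N * e₀)) := by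
      have hg : IsUnit (algebraMap D (Localization.Away g) g) := IsLocalization.Away.algebraMap_isUnit g
      rw [map_mul, map_mul, IsUnit.mul_iff, IsUnit.mul_iff] at hg
      rw [map_mul, map_pow]
      exact (hg.1.1.pow N).mul hg.1.2
    refine (Ideal.unit_mul_mem_iff_mem _ hu).1 ?_
    rw [← map_mul, mul_assoc]
    have := Ideal.mem_map_of_mem (algebraMap D (Localization.Away g)) hN
    rw [Ideal.map_span, ← Set.range_comp] at this
    exact this

end Groth.L09.Artin
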