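import Mathlib.RingTheory.NoetherNormalization
import Mathlib.RingTheory.RingHom.Flat
import Mathlib.RingTheory.Localization.Free
import Mathlib.RingTheory.Flat.TorsionFree
import Mathlib.RingTheory.Jacobson.Ring
import Mathlib.RingTheory.Artinian.Ring
import Mathlib.RingTheory.Localization.FractionRing
import Mathlib.Algebra.MvPolynomial.Equiv
import Mathlib.RingTheory.PolynomialAlgebra
import Mathlib.FieldTheory.Minpoly.Field

/-!
Finite complete intersection subschemes of algebras of finite type over a field.
-/

set_option autoImplicit false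

universe u

open TensorProduct

namespace Groth.L09.Artin

/-- Adjunction of one variable as a tensor product. -/
noncomputable def consEquiv (k : Type u) [CommRing k] (n : ℕ) :
    MvPolynomial (Fin n) k ⊗[k] Polynomial k ≃ₐ[k] MvPolynomial (Fin (n + 1)) k :=
  ((polyEquivTensor k (MvPolynomial (Fin n) k)).symm.restrictScalars k).trans (MvPolynomial.finSuccEquiv k n).symm

theorem consEquiv_left (k : Type u) [CommRing k] (n : ℕ) (i : Fin n) :
    consEquiv k n (MvPolynomial.X i ⊗ₜ 1) = MvPolynomial.X i.succ := by
  apply (MvPolynomial.finSuccEquiv k n).injective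
  simp [consEquiv, MvPolynomial.finSuccEquiv_X_succ, Algebra.smul_def]

theorem consEquiv_right (k : Type u) [CommRing k] (n : ℕ) :
    consEquiv k n (1 ⊗ₜ Polynomial.X) = MvPolynomial.X 0 := by
  apply (MvPolynomial.finSuccEquiv k n).injective
  simp [consEquiv, MvPolynomial.finSuccEquiv_X_zero]

/-- An injective map from a Bezout domain to a domain is flat. -/
theorem flat_of_injective {R T : Type*} [CommRing R] [IsDomain R] [IsBezout R] [CommRing T] [IsDomain T]
    (φ : R →+* T) (hφ : Function.Injective φ) : φ.Flat := by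
  letI : Algebra R T := φ.toAlgebra
  refine (Module.Flat.flat_iff_torsion_eq_bot_of_isBezout (R := R) (M := T)).2 ?_
  refine (Submodule.eq_bot_iff _).2 fun x hx => ?_
  obtain ⟨⟨a, ha⟩, hax⟩ := hx
  have hmul : φ a * x = 0 := hax
  exact (mul_eq_zero.1 hmul).resolve_left fun h => nonZeroDivisors.ne_zero ha (hφ (h.trans (map_zero φ).symm))

/-- Substituting a nonconstant polynomial for the variable is flat. -/
theorem flat_aeval_polynomial {k : Type u} [Field k] {p : Polynomial k} (hp : 0 < p.natDegree) :
    (Polynomial.aeval p : Polynomial k →ₐ[k] Polynomial k).Flat := by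
  let φ := (Polynomial.aeval p : Polynomial k →ₐ[k] Polynomial k)
  have hinj : Function.Injective φ := fun a b h => by
    by_contra hne
    have h0 : (a - b).comp p = 0 := by
      rw [Polynomial.comp_eq_aeval, map_sub]
      exact sub_eq_zero.2 h
    rcases Polynomial.comp_eq_zero_iff.1 h0 with h1 | ⟨-, h1⟩
    · exact hne (sub_eq_zero.1 h1)
    · rw [h1, Polynomial.natDegree_C] at hp
      exact lt_irrefl 0 hp
  exact flat_of_injective φ.toRingHom hinj

/-- Substituting nonconstant polynomials in separate variables is flat. -/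
theorem flat_aeval_mvPolynomial {k : Type u} [Field k] : ∀ {n : ℕ} (p : Fin n → Polynomial k),
    (∀ i, 0 < (p i).natDegree) →
      (MvPolynomial.aeval fun i => Polynomial.aeval (MvPolynomial.X i) (p i) :
        MvPolynomial (Fin n) k →ₐ[k] MvPolynomial (Fin n) k).Flat
  | 0, p, _ => by
    have h : (MvPolynomial.aeval fun i => Polynomial.aeval (MvPolynomial.X i) (p i) :
        MvPolynomial (Fin 0) k →ₐ[k] MvPolynomial (Fin 0) k) = AlgHom.id k _ :=
      MvPolynomial.algHom_ext fun i => i.elim0
    rw [h]
    exact RingHom.Flat.id _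
  | n + 1, p, hp => by
    let φ : MvPolynomial (Fin n) k →ₐ[k] MvPolynomial (Fin n) k :=
      MvPolynomial.aeval fun i : Fin n => Polynomial.aeval (MvPolynomial.X i) (p i.succ)
    let ψ : Polynomial k →ₐ[k] Polynomial k := Polynomial.aeval (p 0)
    have h := RingHom.Flat.tensorProductMap (R := k) (S := k)
      (flat_aeval_mvPolynomial (fun i : Fin n => p i.succ) fun i => hp i.succ : φ.Flat)
      (flat_aeval_polynomial (hp 0) : ψ.Flat)
    let e := consEquiv k n
    have he : (MvPolynomial.aeval fun i => Polynomial.aeval (MvPolynomial.X i) (p i) :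
        MvPolynomial (Fin (n + 1)) k →ₐ[k] MvPolynomial (Fin (n + 1)) k).comp e.toAlgHom =
          e.toAlgHom.comp (Algebra.TensorProduct.map φ ψ) := by
      refine Algebra.TensorProduct.ext (MvPolynomial.algHom_ext fun i => ?_) (Polynomial.algHom_ext ?_)
      · show MvPolynomial.aeval _ (e (MvPolynomial.X i ⊗ₜ 1)) =
          e.toAlgHom (Algebra.TensorProduct.map φ ψ (MvPolynomial.X i ⊗ₜ 1))
        rw [consEquiv_left, MvPolynomial.aeval_X, Algebra.TensorProduct.map_tmul, map_one,
          show φ (MvPolynomial.X i) = Polynomial.aeval (MvPolynomial.X i) (p i.succ) from MvPolynomial.aeval_X _ _]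
        exact ((congrArg (fun z => Polynomial.aeval z (p i.succ)) (consEquiv_left k n i)).symm.trans
          (Polynomial.aeval_algHom_apply (e.toAlgHom.comp Algebra.TensorProduct.includeLeft) _ _))
      · show MvPolynomial.aeval _ (e (1 ⊗ₜ Polynomial.X)) =
          e.toAlgHom (Algebra.TensorProduct.map φ ψ (1 ⊗ₜ Polynomial.X))
        rw [consEquiv_right, MvPolynomial.aeval_X, Algebra.TensorProduct.map_tmul, map_one,
          show ψ Polynomial.X = p 0 from Polynomial.aeval_X _]
        have h1 : e.toAlgHom.comp (Algebra.TensorProduct.includeRight :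
            Polynomial k →ₐ[k] MvPolynomial (Fin n) k ⊗[k] Polynomial k) = Polynomial.aeval (MvPolynomial.X 0) :=
          Polynomial.algHom_ext ((consEquiv_right k n).trans (Polynomial.aeval_X _).symm)
        exact (DFunLike.congr_fun h1 (p 0)).symm
    refine (RingHom.Flat.comp_iff_of_bijective_right (g := e.toAlgHom.toRingHom) e.bijective).1 ?_
    show ((MvPolynomial.aeval fun i => Polynomial.aeval (MvPolynomial.X i) (p i) :
        MvPolynomial (Fin (n + 1)) k →ₐ[k] MvPolynomial (Fin (n + 1)) k).comp e.toAlgHom).Flat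
    rw [he]
    exact h.comp (RingHom.Flat.of_bijective e.bijective)

/-- A nonzero algebra of finite type over a field has, after inverting an element, a nonzero finite quotient
cut out by a family of elements defining a flat map from a polynomial algebra. -/
theorem exists_flat_slice (k C : Type u) [Field k] [CommRing C] [Algebra k C] [Algebra.FiniteType k C]
    [Nontrivial C] :
    ∃ (n : ℕ) (h : C) (t : Fin n → C),
      (MvPolynomial.aeval (fun i => algebraMap C (Localization.Away h) (t i)) :
        MvPolynomial (Fin n) k →ₐ[k] Localization.Away h).Flat ∧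
      Module.Finite k (Localization.Away h ⧸ Ideal.span (Set.range fun i => algebraMap C (Localization.Away h) (t i))) ∧
      Nontrivial (Localization.Away h ⧸ Ideal.span (Set.range fun i => algebraMap C (Localization.Away h) (t i))) ∧
      Function.Surjective (algebraMap C
        (Localization.Away h ⧸ Ideal.span (Set.range fun i => algebraMap C (Localization.Away h) (t i)))) := by
  classical
  obtain ⟨n, g, hg, hgfin⟩ := exists_finite_inj_algHom_of_fg k C
  let P := MvPolynomial (Fin n) k
  letI : Algebra P C := g.toRingHom.toAlgebra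
  haveI : IsScalarTower k P C := IsScalarTower.of_algebraMap_eq fun a => (g.commutes a).symm
  haveI : Module.Finite P C := hgfin
  haveI : Module.FinitePresentation P C := Module.finitePresentation_of_finite P C
  letI : Field (Localization (nonZeroDivisors P)) := inferInstanceAs (Field (FractionRing P))
  obtain ⟨r, hr, hfree, -⟩ := Module.FinitePresentation.exists_free_localizedModule_powers (nonZeroDivisors P)
    (LocalizedModule.mkLinearMap (nonZeroDivisors P) C) (Localization (nonZeroDivisors P))
  have hr0 : r ≠ 0 := nonZeroDivisors.ne_zero hr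
  haveI : IsJacobsonRing P := inferInstance
  have hrj : r ∉ (⊥ : Ideal P).jacobson := by
    rw [IsJacobsonRing.out inferInstance (Ideal.isRadical_bot_iff.2 inferInstance)]
    simpa using hr0
  obtain ⟨m, hm, hrm⟩ : ∃ m : Ideal P, m.IsMaximal ∧ r ∉ m := by
    by_contra hne
    push Not at hne
    exact hrj (Ideal.mem_sInf.2 fun {J} hJ => hne J hJ.2)
  haveI := hm
  letI := Ideal.Quotient.field m
  haveI : Module.Finite k (P ⧸ m) := finite_of_finite_type_of_isJacobsonRing k (P ⧸ m)
  let p : Fin n → Polynomial k := fun i => minpoly k (Ideal.Quotient.mk m (MvPolynomial.X i))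
  let tP : Fin n → P := fun i => Polynomial.aeval (MvPolynomial.X i) (p i)
  have htPm : ∀ i, tP i ∈ m := fun i => by
    rw [← Ideal.Quotient.eq_zero_iff_mem]
    show Ideal.Quotient.mkₐ k m (Polynomial.aeval (MvPolynomial.X i) (p i)) = 0
    rw [← Polynomial.aeval_algHom_apply]
    exact minpoly.aeval k _
  let h : C := g r
  let t : Fin n → C := fun i => g (tP i)
  let Ch := Localization.Away h
  haveI : IsLocalizedModule (.powers r) ((IsScalarTower.toAlgHom P C Ch).toLinearMap) :=
    (isLocalizedModule_iff_isLocalization).2 (by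
      rw [Algebra.algebraMapSubmonoid, Submonoid.map_powers]
      exact inferInstanceAs (IsLocalization (Submonoid.powers h) Ch))
  haveI hflat : Module.Flat P Ch := by
    haveI : Module.Flat P (Localization (Submonoid.powers r)) :=
      IsLocalization.flat (Localization (Submonoid.powers r)) (Submonoid.powers r)
    haveI : Module.Flat (Localization (Submonoid.powers r)) (LocalizedModule.Away r C) := by
      haveI := hfree; infer_instance
    haveI : Module.Flat P (LocalizedModule.Away r C) :=
      Module.Flat.trans P (Localization (Submonoid.powers r)) _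
    exact Module.Flat.of_linearEquiv
      (IsLocalizedModule.iso (Submonoid.powers r) (IsScalarTower.toAlgHom P C Ch).toLinearMap).symm
  have heq : (MvPolynomial.aeval (fun i => algebraMap C Ch (t i)) : P →ₐ[k] Ch) =
      (IsScalarTower.toAlgHom k P Ch).comp (MvPolynomial.aeval tP) := MvPolynomial.algHom_ext fun i => by
    simp only [MvPolynomial.aeval_X, AlgHom.comp_apply, IsScalarTower.coe_toAlgHom']
    exact (IsScalarTower.algebraMap_apply P C Ch (tP i)).symm
  let J : Ideal Ch := Ideal.span (Set.range fun i => algebraMap C Ch (t i))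
  let JP : Ideal P := Ideal.span (Set.range tP)
  have hJ : ∀ x ∈ JP, algebraMap P Ch x ∈ J := by
    have : JP ≤ J.comap (algebraMap P Ch) := Ideal.span_le.2 (by
      rintro _ ⟨i, rfl⟩
      rw [SetLike.mem_coe, Ideal.mem_comap, IsScalarTower.algebraMap_apply P C Ch]
      exact Ideal.subset_span ⟨i, rfl⟩)
    exact fun x hx => this hx
  haveI : Module.Finite k (P ⧸ JP) := by
    haveI : Algebra.FiniteType k (P ⧸ JP) :=
      Algebra.FiniteType.of_surjective (Ideal.Quotient.mkₐ k JP) Ideal.Quotient.mk_surjective
    haveI : Algebra.IsIntegral k (P ⧸ JP) := by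
      refine ⟨fun x => ?_⟩
      obtain ⟨x, rfl⟩ := Ideal.Quotient.mk_surjective x
      induction x using MvPolynomial.induction_on with
      | C a => exact (isIntegral_algebraMap : IsIntegral k (algebraMap k (P ⧸ JP) a))
      | add a b ha hb => rw [map_add]; exact ha.add hb
      | mul_X a i ha =>
        rw [map_mul]
        refine ha.mul ⟨p i, minpoly.monic (IsIntegral.of_finite k _), ?_⟩
        have : Ideal.Quotient.mkₐ k JP (tP i) = 0 := Ideal.Quotient.eq_zero_iff_mem.2 (Ideal.subset_span ⟨i, rfl⟩)
        rw [← Polynomial.aeval_algHom_apply] at this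
        exact this
    exact Algebra.IsIntegral.finite
  haveI : Module.Finite k (C ⧸ Ideal.span (Set.range t)) := by
    have hmap : Ideal.span (Set.range t) = JP.map (algebraMap P C) := by
      rw [Ideal.map_span, ← Set.range_comp]; rfl
    rw [hmap]
    haveI : Module.Finite (P ⧸ JP) (C ⧸ JP.map (algebraMap P C)) :=
      Module.Finite.of_restrictScalars_finite P _ _
    haveI : IsScalarTower P (P ⧸ JP) (C ⧸ JP.map (algebraMap P C)) := inferInstance
    haveI : IsScalarTower k (P ⧸ JP) (C ⧸ JP.map (algebraMap P C)) := IsScalarTower.to₁₃₄ k P (P ⧸ JP) _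
    exact Module.Finite.trans (P ⧸ JP) _
  let qC := C ⧸ Ideal.span (Set.range t)
  haveI : IsArtinianRing qC := IsArtinianRing.of_finite k qC
  have hsurj : Function.Surjective (algebraMap C (Ch ⧸ J)) := by
    let hbar : qC := Ideal.Quotient.mk _ h
    intro y
    obtain ⟨y, rfl⟩ := Ideal.Quotient.mk_surjective y
    obtain ⟨⟨c, ⟨_, N, rfl⟩⟩, hc⟩ := IsLocalization.surj (Submonoid.powers h) y
    obtain ⟨z, hz⟩ := IsArtinianRing.localization_surjective (Submonoid.powers hbar) (Localization.Away hbar)
      (IsLocalization.mk' (Localization.Away hbar) (Ideal.Quotient.mk (Ideal.span (Set.range t)) c)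
        (⟨hbar ^ N, N, rfl⟩ : Submonoid.powers hbar))
    obtain ⟨z, rfl⟩ := Ideal.Quotient.mk_surjective z
    rw [eq_comm, IsLocalization.mk'_eq_iff_eq_mul, ← map_mul, IsLocalization.eq_iff_exists (Submonoid.powers hbar)] at hz
    obtain ⟨⟨_, M, rfl⟩, hz⟩ := hz
    have hz' : h ^ M * c - h ^ M * (z * h ^ N) ∈ Ideal.span (Set.range t) := by
      rw [← Ideal.Quotient.eq_zero_iff_mem, map_sub, sub_eq_zero]
      simpa [map_mul, map_pow] using hz
    have hz'' : algebraMap C Ch (h ^ M * c - h ^ M * (z * h ^ N)) ∈ J := by
      have : Ideal.span (Set.range t) ≤ J.comap (algebraMap C Ch) :=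
        Ideal.span_le.2 (by rintro _ ⟨i, rfl⟩; exact Ideal.subset_span ⟨i, rfl⟩)
      exact this hz'
    refine ⟨z, (Ideal.Quotient.eq).2 ?_⟩
    have hu : IsUnit (algebraMap C Ch (h ^ M * h ^ N)) := by
      rw [map_mul, map_pow, map_pow]
      exact ((IsLocalization.Away.algebraMap_isUnit h).pow M).mul ((IsLocalization.Away.algebraMap_isUnit h).pow N)
    refine (Ideal.unit_mul_mem_iff_mem J hu).1 ?_
    have hc' : y * algebraMap C Ch (h ^ N) = algebraMap C Ch c := hc
    have : algebraMap C Ch (h ^ M * h ^ N) * (algebraMap C Ch z - y) =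
        -algebraMap C Ch (h ^ M * c - h ^ M * (z * h ^ N)) := by
      simp only [map_mul, map_sub, ← hc']; ring
    rw [this]
    exact J.neg_mem hz''
  refine ⟨n, h, t, ?_, ?_, ?_, hsurj⟩
  · rw [heq]
    exact (flat_aeval_mvPolynomial p fun i => minpoly.natDegree_pos (IsIntegral.of_finite k _)).comp
      (RingHom.flat_algebraMap_iff.2 hflat)
  · let f : qC →ₐ[k] Ch ⧸ J := Ideal.Quotient.liftₐ _ (IsScalarTower.toAlgHom k C (Ch ⧸ J)) (by
      intro x hx
      have : Ideal.span (Set.range t) ≤ RingHom.ker (algebraMap C (Ch ⧸ J)) := Ideal.span_le.2 (by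
        rintro _ ⟨i, rfl⟩
        exact (Ideal.Quotient.eq_zero_iff_mem).2 (Ideal.subset_span ⟨i, rfl⟩))
      exact RingHom.mem_ker.1 (this hx))
    refine Module.Finite.of_surjective f.toLinearMap fun y => ?_
    obtain ⟨z, rfl⟩ := hsurj y
    exact ⟨Ideal.Quotient.mk _ z, rfl⟩
  · -- a maximal ideal of `C` above `m` gives a point
    haveI : FaithfulSMul P C := (faithfulSMul_iff_algebraMap_injective P C).2 hg
    haveI : Algebra.IsIntegral P C := Algebra.IsIntegral.of_finite P C
    obtain ⟨M, hM, hMm⟩ := Ideal.exists_ideal_over_maximal_of_isIntegral m (by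
      rw [(RingHom.injective_iff_ker_eq_bot (algebraMap P C)).1 hg]; exact bot_le)
    have hhM : h ∉ M := fun hh => hrm (hMm ▸ hh)
    have hMp : Disjoint (Submonoid.powers h : Set C) (M : Set C) := by
      rw [Set.disjoint_left]
      rintro _ ⟨N, rfl⟩ hN
      exact hhM (hM.isPrime.mem_of_pow_mem N hN)
    have hprime := IsLocalization.isPrime_of_isPrime_disjoint (Submonoid.powers h) Ch M hM.isPrime hMp
    refine Ideal.Quotient.nontrivial_iff.2 (ne_top_of_le_ne_top hprime.ne_top (Ideal.span_le.2 ?_))
    rintro _ ⟨i, rfl⟩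
    have : tP i ∈ M.comap (algebraMap P C) := by rw [hMm]; exact htPm i
    exact Ideal.mem_map_of_mem (algebraMap C Ch) this

end Groth.L09.Artin
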