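import Groth.Agent.L13.WeilRes.Alg

/-!
The Weil restriction of an algebra of finite presentation is of finite presentation over any base.
-/

set_option autoImplicit false

universe u

open TensorProduct

namespace Groth.L09.Artin

open Groth.L13.WeilRes

variable (B B' : Type u) [CommRing B] [CommRing B'] [Algebra B B'] [Module.Finite B B'] [Module.Projective B B']
  (A : Type u) [CommRing A] [Algebra B' A]

theorem weilRes_finitePresentation [Algebra.FinitePresentation B' A] :
    Algebra.FinitePresentation B (W B B' A) := by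
  classical
  obtain ⟨N, q, hq, hker⟩ := Algebra.FinitePresentation.out (R := B') (A := A)
  obtain ⟨rs, hrs⟩ := hker
  let P0 := MvPolynomial (Fin N × Fin (rk B B')) B
  let g : Fin N → B' ⊗[B] P0 := fun j => ∑ i, bas B B' i ⊗ₜ MvPolynomial.X (j, i)
  let ev : MvPolynomial (Fin N) B' →ₐ[B'] B' ⊗[B] P0 := MvPolynomial.aeval g
  let R1 : Set P0 := Set.range fun x : {r // r ∈ rs} × Fin (rk B B') => coord P0 x.2 (ev x.1.1)
  let R2 : Set P0 := Set.range fun x : Fin N × Fin (rk B B') => MvPolynomial.X x - coord P0 x.2 (g x.1)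
  have hfg : (Ideal.span (R1 ∪ R2)).FG :=
    Submodule.fg_span ((Set.finite_range _).union (Set.finite_range _))
  let P := P0 ⧸ Ideal.span (R1 ∪ R2)
  haveI : Algebra.FinitePresentation B P :=
    Algebra.FinitePresentation.quotient hfg
  let pr : P0 →ₐ[B] P := Ideal.Quotient.mkₐ B _
  have hpr : ∀ x ∈ R1 ∪ R2, pr x = 0 := fun x hx => Ideal.Quotient.eq_zero_iff_mem.2 (Ideal.subset_span hx)
  let m := Algebra.TensorProduct.map (AlgHom.id B' B') pr
  have hev : ∀ x ∈ RingHom.ker q, m.comp ev x = 0 := by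
    intro x hx
    replace hx : x ∈ Ideal.span (rs : Set (MvPolynomial (Fin N) B')) := hrs.symm ▸ (hx : x ∈ RingHom.ker q.toRingHom)
    refine RingHom.mem_ker.1 ((Ideal.span_le.2 (fun r hr => ?_)) hx : x ∈ RingHom.ker (m.comp ev))
    refine RingHom.mem_ker.2 ?_
    show m (ev r) = 0
    refine ext_coord fun i => ?_
    rw [coord_map, map_zero]
    exact hpr _ (Or.inl ⟨(⟨r, hr⟩, i), rfl⟩)
  let qe : A →ₐ[B'] B' ⊗[B] P :=
    (Ideal.Quotient.liftₐ (RingHom.ker q) (m.comp ev) hev).comp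
      (Ideal.quotientKerAlgEquivOfSurjective hq).symm.toAlgHom
  have hqe : ∀ x, qe (q x) = m (ev x) := fun x => by
    show Ideal.Quotient.liftₐ (RingHom.ker q) (m.comp ev) hev
      ((Ideal.quotientKerAlgEquivOfSurjective hq).symm (q x)) = _
    rw [show (Ideal.quotientKerAlgEquivOfSurjective hq).symm (q x) = Ideal.Quotient.mk _ x from
      (AlgEquiv.symm_apply_eq _).2 rfl]
    rfl
  let Φ : W B B' A →ₐ[B] P := toHom qe
  let w : Fin N → Fin (rk B B') → W B B' A := fun j i => coord _ i (univ B B' A (q (MvPolynomial.X j)))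
  let Ψ0 : P0 →ₐ[B] W B B' A := MvPolynomial.aeval fun x => w x.1 x.2
  have hΨg : ∀ j, Algebra.TensorProduct.map (AlgHom.id B' B') Ψ0 (g j) = univ B B' A (q (MvPolynomial.X j)) := fun j => by
    simp only [g, map_sum, Algebra.TensorProduct.map_tmul, AlgHom.coe_id, id_eq]
    refine (Finset.sum_congr rfl fun i _ => ?_).trans (sum_bas_coord _)
    rw [MvPolynomial.aeval_X]
  have hΨev : ∀ x, Algebra.TensorProduct.map (AlgHom.id B' B') Ψ0 (ev x) = univ B B' A (q x) :=
    fun x => AlgHom.congr_fun (show (Algebra.TensorProduct.map (AlgHom.id B' B') Ψ0).comp ev = (univ B B' A).comp q from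
      MvPolynomial.algHom_ext fun j => by simpa [ev] using hΨg j) x
  let Ψ : P →ₐ[B] W B B' A := Ideal.Quotient.liftₐ _ Ψ0 fun x hx => by
    refine RingHom.mem_ker.1 ((Ideal.span_le.2 ?_) hx : x ∈ RingHom.ker Ψ0)
    rintro _ (⟨⟨⟨r, hr⟩, i⟩, rfl⟩ | ⟨⟨j, i⟩, rfl⟩) <;> rw [SetLike.mem_coe, RingHom.mem_ker]
    · rw [← coord_map, hΨev, show q r = 0 from RingHom.mem_ker.1 (hrs ▸ Ideal.subset_span hr), map_zero, map_zero]
    · rw [map_sub, MvPolynomial.aeval_X, ← coord_map, hΨg, sub_self]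
  have hΨpr : (Algebra.TensorProduct.map (AlgHom.id B' B') Ψ).comp m = Algebra.TensorProduct.map (AlgHom.id B' B') Ψ0 := by
    rw [← Algebra.TensorProduct.map_id_comp]
    rfl
  have h1 : Φ.comp Ψ = AlgHom.id B P := Ideal.Quotient.algHom_ext B (MvPolynomial.algHom_ext fun x => by
    show Φ (Ψ0 (MvPolynomial.X x)) = pr (MvPolynomial.X x)
    rw [MvPolynomial.aeval_X, ← coord_map]
    rw [show Algebra.TensorProduct.map (AlgHom.id B' B') Φ (univ B B' A (q (MvPolynomial.X x.1))) =
      qe (q (MvPolynomial.X x.1)) from AlgHom.congr_fun (map_toHom_univ qe) _, hqe, MvPolynomial.aeval_X, coord_map]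
    exact (sub_eq_zero.1 ((map_sub pr _ _).symm.trans (hpr _ (Or.inr ⟨x, rfl⟩)))).symm)
  have h2 : Ψ.comp Φ = AlgHom.id B (W B B' A) := hom_ext (by
    rw [Algebra.TensorProduct.map_id_comp, AlgHom.comp_assoc, map_toHom_univ, Algebra.TensorProduct.map_id]
    refine AlgHom.ext fun a => ?_
    obtain ⟨x, rfl⟩ := hq a
    rw [AlgHom.comp_apply, hqe]
    exact (AlgHom.congr_fun hΨpr (ev x)).trans (hΨev x))
  exact Algebra.FinitePresentation.equiv (AlgEquiv.ofAlgHom Ψ Φ h2 h1)

/-- The Weil restriction of a smooth algebra is smooth. -/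
theorem weilRes_smooth [Algebra.Smooth B' A] : Algebra.Smooth B (W B B' A) :=
  ⟨formallySmooth B B' A, weilRes_finitePresentation B B' A⟩

end Groth.L09.Artin
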