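import Groth.Agent.L09.Artin.Model
import Groth.Agent.L09.Artin.Special
import Groth.Agent.L09.Artin.Lift
import Groth.Agent.L09.Artin.WeilFP
import Mathlib.RingTheory.Smooth.Locus
import Mathlib.RingTheory.Ideal.Quotient.Nilpotent

/-!
The parameter algebra of maps to finite free algebras with basis, and its smoothness at the finite
quotients cut out by families defining flat maps.
-/

set_option autoImplicit false

universe u

open TensorProduct

namespace Groth.L09.Artin

open Groth.L13.WeilRes

variable (A : Type u) [CommRing A] (C : Type u) [CommRing C] [Algebra A C] (d : ℕ)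

/-- The relations between structure constants over a base. -/
noncomputable def strIdeal : Ideal (MvPolynomial (StrVar d) A) :=
  Ideal.span (MvPolynomial.map ((Int.castRingHom A).comp ULift.ringEquiv.toRingHom) '' strRels.{u} d)

/-- Structure constants over a base. -/
def StrBase : Type u :=
  MvPolynomial (StrVar d) A ⧸
    strIdeal A d

noncomputable instance : CommRing (StrBase A d) :=
  inferInstanceAs (CommRing (MvPolynomial (StrVar d) A ⧸
    strIdeal A d))

noncomputable instance : Algebra A (StrBase A d) :=
  inferInstanceAs (Algebra A (MvPolynomial (StrVar d) A ⧸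
    strIdeal A d))

/-- The parameters of structure constants over a base. -/
noncomputable def strι : StrRing.{u} d →+* StrBase A d :=
  Ideal.Quotient.lift _ ((Ideal.Quotient.mk _).comp
      (MvPolynomial.map ((Int.castRingHom A).comp ULift.ringEquiv.toRingHom)))
    fun x hx => Ideal.Quotient.eq_zero_iff_mem.2 (by
      rw [strIdeal, ← Ideal.map_span]
      exact Ideal.mem_map_of_mem _ hx)

/-- The universal structure constants over a base. -/
noncomputable def str1 : Str (StrBase A d) d := univStr.map (strι A d)

noncomputable instance : Algebra A (str1 A d).Alg :=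
  ((algebraMap (StrBase A d) (str1 A d).Alg).comp (algebraMap A (StrBase A d))).toAlgebra

instance : IsScalarTower A (StrBase A d) (str1 A d).Alg := IsScalarTower.of_algebraMap_eq fun _ => rfl

/-- The parameter algebra of a map to a finite free algebra with basis. -/
abbrev Par : Type u := W (StrBase A d) (str1 A d).Alg ((str1 A d).Alg ⊗[A] C)

noncomputable instance : Algebra A (Par A C d) :=
  ((algebraMap (StrBase A d) (Par A C d)).comp (algebraMap A (StrBase A d))).toAlgebra

instance : IsScalarTower A (StrBase A d) (Par A C d) := IsScalarTower.of_algebraMap_eq fun _ => rfl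

/-- The universal structure constants on the parameter algebra. -/
noncomputable abbrev parStr : Str (Par A C d) d := (str1 A d).map (algebraMap (StrBase A d) (Par A C d))

/-- The identification of the universal algebra. -/
noncomputable def parEquiv :
    (parStr A C d).Alg ≃+* (str1 A d).Alg ⊗[StrBase A d] Par A C d :=
  ((str1 A d).baseChangeEquiv (Par A C d)).toRingEquiv.trans
    (Algebra.TensorProduct.comm (StrBase A d) (Par A C d) (str1 A d).Alg).toRingEquiv

/-- The universal map. -/
noncomputable def parMap : C →+* (parStr A C d).Alg :=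
  (parEquiv A C d).symm.toRingHom.comp
    ((univ (StrBase A d) (str1 A d).Alg ((str1 A d).Alg ⊗[A] C)).toRingHom.comp
      (Algebra.TensorProduct.includeRight : C →ₐ[A] (str1 A d).Alg ⊗[A] C).toRingHom)

/-- The coordinates of the universal map. -/
noncomputable def parCoord (c : C) (j : Fin d) : Par A C d :=
  (parStr A C d).basis.repr (parMap A C d c) j

variable {A C d}

theorem parMap_algebraMap (a : A) :
    parMap A C d (algebraMap A C a) = algebraMap (Par A C d) (parStr A C d).Alg (algebraMap A (Par A C d) a) := by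
  let z := univ (StrBase A d) (str1 A d).Alg ((str1 A d).Alg ⊗[A] C)
  show (parEquiv A C d).symm (z ((1 : (str1 A d).Alg) ⊗ₜ algebraMap A C a)) = _
  rw [RingEquiv.symm_apply_eq]
  have e : ((1 : (str1 A d).Alg) ⊗ₜ[A] algebraMap A C a) =
      algebraMap (str1 A d).Alg ((str1 A d).Alg ⊗[A] C) (algebraMap A (str1 A d).Alg a) := by
    show _ = algebraMap A (str1 A d).Alg a ⊗ₜ (1 : C)
    rw [Algebra.algebraMap_eq_smul_one, Algebra.algebraMap_eq_smul_one, TensorProduct.tmul_smul,
      TensorProduct.smul_tmul']
  rw [e, z.commutes]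
  show _ = Algebra.TensorProduct.comm _ _ _ ((str1 A d).baseChangeEquiv (Par A C d) (algebraMap _ _ _))
  rw [AlgEquiv.commutes]
  show algebraMap A (str1 A d).Alg a ⊗ₜ[StrBase A d] (1 : Par A C d) =
    Algebra.TensorProduct.comm _ _ _ (algebraMap A (Par A C d) a ⊗ₜ[StrBase A d] (1 : (str1 A d).Alg))
  rw [Algebra.TensorProduct.comm_tmul, IsScalarTower.algebraMap_apply A (StrBase A d) (str1 A d).Alg,
    IsScalarTower.algebraMap_apply A (StrBase A d) (Par A C d), Algebra.algebraMap_eq_smul_one,
    Algebra.algebraMap_eq_smul_one (A := Par A C d), TensorProduct.tmul_smul, TensorProduct.smul_tmul']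

theorem univ_one_tmul (c : C) :
    univ (StrBase A d) (str1 A d).Alg ((str1 A d).Alg ⊗[A] C) (1 ⊗ₜ c) =
      ∑ j, (str1 A d).basis j ⊗ₜ[StrBase A d] parCoord A C d c j := by
  have h : univ (StrBase A d) (str1 A d).Alg ((str1 A d).Alg ⊗[A] C) (1 ⊗ₜ c) =
      parEquiv A C d (parMap A C d c) := ((parEquiv A C d).apply_symm_apply _).symm
  rw [h]
  conv_lhs => rw [← (parStr A C d).basis.sum_repr (parMap A C d c)]
  rw [map_sum]
  refine Finset.sum_congr rfl fun j _ => ?_
  show Algebra.TensorProduct.comm _ _ _ ((str1 A d).baseChangeEquiv (Par A C d)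
    (parCoord A C d c j • (parStr A C d).basis j)) = _
  rw [map_smul]
  have hb : (str1 A d).baseChangeEquiv (Par A C d) ((parStr A C d).basis j) =
      (1 : Par A C d) ⊗ₜ[StrBase A d] (str1 A d).basis j :=
    (Str.algEquiv_basis _ _ _ _ j).trans (Algebra.TensorProduct.basis_apply _ j)
  rw [hb, TensorProduct.smul_tmul', smul_eq_mul, mul_one, Algebra.TensorProduct.comm_tmul]

variable {T : Type u} [CommRing T] [Algebra A T]

/-- Two points of the parameter algebra agree if their structure constants and coordinates do. -/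
theorem par_hom_ext {f g : Par A C d →ₐ[A] T}
    (hs : (parStr A C d).map f.toRingHom = (parStr A C d).map g.toRingHom)
    (hc : ∀ c j, f (parCoord A C d c j) = g (parCoord A C d c j)) : f = g := by
  have h1 : f.toRingHom.comp (algebraMap (StrBase A d) (Par A C d)) =
      g.toRingHom.comp (algebraMap (StrBase A d) (Par A C d)) :=
    Ideal.Quotient.ringHom_ext (MvPolynomial.ringHom_ext (fun a => (f.commutes a).trans (g.commutes a).symm)
      fun v => by
        rcases v with i | ⟨i, j, k⟩
        · have h := congrArg (fun s : Str T d => s.unit i) hs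
          simp only [parStr, str1, Str.map, univStr] at h
          rwa [show strι A d (Ideal.Quotient.mk _ (MvPolynomial.X (Sum.inl i))) = Ideal.Quotient.mk _ (MvPolynomial.X (Sum.inl i))
            from congrArg (Ideal.Quotient.mk (strIdeal A d)) (MvPolynomial.map_X _ _)] at h
        · have h := congrArg (fun s : Str T d => s.mul i j k) hs
          simp only [parStr, str1, Str.map, univStr] at h
          rwa [show strι A d (Ideal.Quotient.mk _ (MvPolynomial.X (Sum.inr (i, j, k)))) = Ideal.Quotient.mk _ (MvPolynomial.X (Sum.inr (i, j, k)))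
            from congrArg (Ideal.Quotient.mk (strIdeal A d)) (MvPolynomial.map_X _ _)] at h)
  letI : Algebra (StrBase A d) T := (f.toRingHom.comp (algebraMap (StrBase A d) (Par A C d))).toAlgebra
  let f' : Par A C d →ₐ[StrBase A d] T := { f.toRingHom with commutes' := fun x => rfl }
  let g' : Par A C d →ₐ[StrBase A d] T :=
    { g.toRingHom with commutes' := fun x => (RingHom.congr_fun h1 x).symm }
  have h2 : f' = g' := hom_ext (AlgHom.ext fun z => by
    induction z using TensorProduct.induction_on with
    | zero => simp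
    | tmul x c =>
      have e : (x ⊗ₜ[A] c : (str1 A d).Alg ⊗[A] C) = x • ((1 : (str1 A d).Alg) ⊗ₜ c) := by
        rw [TensorProduct.smul_tmul', smul_eq_mul, mul_one]
      rw [e, map_smul, map_smul]
      congr 1
      rw [AlgHom.comp_apply, AlgHom.comp_apply, univ_one_tmul, map_sum, map_sum]
      exact Finset.sum_congr rfl fun j _ => by
        rw [Algebra.TensorProduct.map_tmul, Algebra.TensorProduct.map_tmul]
        exact congrArg _ (hc c j)
    | add x y hx hy => simp only [map_add, hx, hy])
  exact AlgHom.ext fun x => AlgHom.congr_fun h2 x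

/-- Every map to a finite free algebra with basis gives a point of the parameter algebra. -/
theorem exists_par_hom (s : Str T d) (ψ : C →+* s.Alg)
    (hψ : ∀ a, ψ (algebraMap A C a) = algebraMap T s.Alg (algebraMap A T a)) :
    ∃ x : Par A C d →ₐ[A] T, (parStr A C d).map x.toRingHom = s ∧
      ∀ c j, x (parCoord A C d c j) = s.basis.repr (ψ c) j := by
  have hev : (MvPolynomial.aeval (R := A) s.val).toRingHom.comp
      (MvPolynomial.map ((Int.castRingHom A).comp ULift.ringEquiv.toRingHom)) =
      s.toHom.comp (Ideal.Quotient.mk (Ideal.span (strRels.{u} d))) :=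
    MvPolynomial.ringHom_ext (fun z => by simp [Str.toHom]) fun v => by simp [Str.toHom]
  let g : StrBase A d →ₐ[A] T := Ideal.Quotient.liftₐ _ (MvPolynomial.aeval s.val) fun x hx => by
    refine RingHom.mem_ker.1 ((Ideal.span_le.2 ?_) hx : x ∈ RingHom.ker (MvPolynomial.aeval (R := A) s.val))
    rintro _ ⟨y, hy, rfl⟩
    refine RingHom.mem_ker.2 ((RingHom.congr_fun hev y).trans ?_)
    show s.toHom (Ideal.Quotient.mk _ y) = 0
    rw [Ideal.Quotient.eq_zero_iff_mem.2 (Ideal.subset_span hy), map_zero]
  letI : Algebra (StrBase A d) T := g.toRingHom.toAlgebra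
  haveI : IsScalarTower A (StrBase A d) T := IsScalarTower.of_algebraMap_eq fun a => (g.commutes a).symm
  have hs : (str1 A d).map (algebraMap (StrBase A d) T) = s := by
    conv_rhs => rw [← univStr_map_toHom s]
    show univStr.map ((algebraMap (StrBase A d) T).comp (strι A d)) = univStr.map s.toHom
    congr 1
    exact Ideal.Quotient.ringHom_ext hev
  suffices key : ∀ s' : Str T d, (str1 A d).map (algebraMap (StrBase A d) T) = s' → ∀ ψ' : C →+* s'.Alg,
      (∀ a, ψ' (algebraMap A C a) = algebraMap T s'.Alg (algebraMap A T a)) →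
      ∃ x : Par A C d →ₐ[A] T, (parStr A C d).map x.toRingHom = s' ∧
        ∀ c j, x (parCoord A C d c j) = s'.basis.repr (ψ' c) j from key s hs ψ hψ
  rintro _ rfl ψ hψ
  let e : ((str1 A d).map (algebraMap (StrBase A d) T)).Alg →+* (str1 A d).Alg ⊗[StrBase A d] T :=
    ((Algebra.TensorProduct.comm (StrBase A d) T (str1 A d).Alg).toRingEquiv).toRingHom.comp
      ((str1 A d).baseChangeEquiv T).toRingEquiv.toRingHom
  let h : C →ₐ[A] (str1 A d).Alg ⊗[StrBase A d] T :=
    { e.comp ψ with
      commutes' := fun a => by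
        show Algebra.TensorProduct.comm _ _ _ ((str1 A d).baseChangeEquiv T (ψ (algebraMap A C a))) = _
        rw [hψ, AlgEquiv.commutes]
        show Algebra.TensorProduct.comm _ _ _ (algebraMap A T a ⊗ₜ[StrBase A d] (1 : (str1 A d).Alg)) = _
        rw [Algebra.TensorProduct.comm_tmul]
        show _ = algebraMap A (str1 A d).Alg a ⊗ₜ[StrBase A d] (1 : T)
        rw [IsScalarTower.algebraMap_apply A (StrBase A d) T,
          IsScalarTower.algebraMap_apply A (StrBase A d) (str1 A d).Alg, Algebra.algebraMap_eq_smul_one,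
          Algebra.algebraMap_eq_smul_one (A := (str1 A d).Alg), TensorProduct.tmul_smul, TensorProduct.smul_tmul'] }
  let F : (str1 A d).Alg ⊗[A] C →ₐ[(str1 A d).Alg] (str1 A d).Alg ⊗[StrBase A d] T :=
    Algebra.TensorProduct.lift (Algebra.ofId _ _) h fun _ _ => Commute.all _ _
  let x := toHom F
  refine ⟨{ x.toRingHom with
    commutes' := fun a => by
      show x (algebraMap (StrBase A d) (Par A C d) (algebraMap A (StrBase A d) a)) = _
      rw [x.commutes, ← IsScalarTower.algebraMap_apply A (StrBase A d) T] }, ?_, fun c j => ?_⟩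
  · show (str1 A d).map (x.toRingHom.comp (algebraMap (StrBase A d) (Par A C d))) = _
    congr 1
    exact RingHom.ext x.commutes
  · have h3 := AlgHom.congr_fun (map_toHom_univ F) ((1 : (str1 A d).Alg) ⊗ₜ[A] c)
    rw [AlgHom.comp_apply, univ_one_tmul, map_sum, Algebra.TensorProduct.lift_tmul, map_one, one_mul] at h3
    simp only [Algebra.TensorProduct.map_tmul, AlgHom.coe_id, id_eq] at h3
    let b := Algebra.TensorProduct.basis T (str1 A d).basis
    have h4 := congrArg (fun z => b.repr (Algebra.TensorProduct.comm (StrBase A d) (str1 A d).Alg T z) j) h3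
    simp only [map_sum, Algebra.TensorProduct.comm_tmul] at h4
    have hb : ∀ (t : T) i, t ⊗ₜ[StrBase A d] (str1 A d).basis i = t • b i := fun t i => by
      rw [Algebra.TensorProduct.basis_apply, TensorProduct.smul_tmul', smul_eq_mul, mul_one]
    simp only [hb] at h4
    rw [← map_sum, b.repr_sum_self] at h4
    refine Eq.trans h4 ?_
    show b.repr (Algebra.TensorProduct.comm (StrBase A d) (str1 A d).Alg T
      (Algebra.TensorProduct.comm (StrBase A d) T (str1 A d).Alg ((str1 A d).baseChangeEquiv T (ψ c)))) j = _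
    have hcc : ∀ z : T ⊗[StrBase A d] (str1 A d).Alg, Algebra.TensorProduct.comm (StrBase A d) (str1 A d).Alg T
        (Algebra.TensorProduct.comm (StrBase A d) T (str1 A d).Alg z) = z := fun z => by
      induction z using TensorProduct.induction_on with
      | zero => simp
      | tmul a b => rw [Algebra.TensorProduct.comm_tmul, Algebra.TensorProduct.comm_tmul]
      | add a b ha hb => simp only [map_add, ha, hb]
    rw [hcc]
    conv_lhs => rw [← ((str1 A d).map (algebraMap (StrBase A d) T)).basis.sum_repr (ψ c), map_sum]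
    simp only [map_smul, Str.baseChangeEquiv, Str.algEquiv_basis, b, Module.Basis.repr_sum_self]

instance finitePresentation_par [Algebra.FinitePresentation A C] : Algebra.FinitePresentation A (Par A C d) := by
  haveI : Algebra.FinitePresentation A (StrBase A d) :=
    (Algebra.FinitePresentation.quotient (Submodule.fg_span
      ((((Set.finite_range _).union (Set.finite_range _)).union (Set.finite_range _)).image _)) :
      Algebra.FinitePresentation A (MvPolynomial (StrVar d) A ⧸
        strIdeal A d))
  haveI : Algebra.FinitePresentation (str1 A d).Alg ((str1 A d).Alg ⊗[A] C) := inferInstance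
  haveI : Algebra.FinitePresentation (StrBase A d) (Par A C d) := weilRes_finitePresentation _ _ _
  exact Algebra.FinitePresentation.trans A (StrBase A d) _

/-- The parameter algebra is formally smooth at a quotient cut out by a family defining a flat map. -/
theorem formallySmooth_par [Algebra.FinitePresentation A C] [Module.Flat A C] {K : Type u} [Field K] [Algebra A K]
    (x : Par A C d →ₐ[A] K) (hx : ∀ k, ∃ y z, x z ≠ 0 ∧ k * x z = x y) (s : Str K d) (hs : (parStr A C d).map x.toRingHom = s)
    (φK : K ⊗[A] C →ₐ[K] s.Alg) (hφK : ∀ c j, s.basis.repr (φK (1 ⊗ₜ c)) j = x (parCoord A C d c j))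
    (hsurj : Function.Surjective φK) {n : ℕ} (h : K ⊗[A] C) (t : Fin n → K ⊗[A] C) (hunit : IsUnit (φK h))
    (ht : ∀ i, φK (t i) = 0)
    (hker : ∀ z, φK z = 0 → algebraMap (K ⊗[A] C) (Localization.Away h) z ∈
      Ideal.span (Set.range fun i => algebraMap (K ⊗[A] C) (Localization.Away h) (t i)))
    (hflat : (MvPolynomial.aeval (fun i => algebraMap (K ⊗[A] C) (Localization.Away h) (t i)) :
      MvPolynomial (Fin n) K →ₐ[K] Localization.Away h).Flat)
    (p : Ideal (Par A C d)) [p.IsPrime] (hp : p = RingHom.ker x) :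
    Algebra.IsSmoothAt A p := by
  let R := Localization.AtPrime p
  have hunits : ∀ y : p.primeCompl, IsUnit (x y) := fun y =>
    IsUnit.mk0 _ fun e => y.2 ((SetLike.ext_iff.1 hp (y : Par A C d)).2 (RingHom.mem_ker.2 e))
  let xR : R →+* K := IsLocalization.lift (g := x.toRingHom) hunits
  letI algRK : Algebra R K := xR.toAlgebra
  have hxR : ∀ y, algebraMap R K (algebraMap (Par A C d) R y) = x y := fun y => IsLocalization.lift_eq hunits y
  haveI : IsScalarTower A R K := IsScalarTower.of_algebraMap_eq fun a => by
    rw [IsScalarTower.algebraMap_apply A (Par A C d) R, hxR, x.commutes]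
  have hK : Function.Surjective (algebraMap R K) := fun k => by
    obtain ⟨y, z, hz, e⟩ := hx k
    have hzp : z ∈ p.primeCompl := fun h1 => hz (RingHom.mem_ker.1 ((SetLike.ext_iff.1 hp z).1 h1))
    refine ⟨IsLocalization.mk' R y ⟨z, hzp⟩, mul_right_cancel₀ hz ?_⟩
    rw [e, ← hxR z, ← map_mul, IsLocalization.mk'_spec, hxR]
  let sR : Str R d := (parStr A C d).map (algebraMap (Par A C d) R)
  have hsR : sR.map (algebraMap R K) = s := by
    rw [← hs]
    show (parStr A C d).map ((algebraMap R K).comp (algebraMap (Par A C d) R)) = _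
    congr 1
    exact RingHom.ext hxR
  subst hsR
  letI algAB : Algebra A sR.Alg := ((algebraMap R sR.Alg).comp (algebraMap A R)).toAlgebra
  haveI : IsScalarTower A R sR.Alg := IsScalarTower.of_algebraMap_eq fun a => rfl
  -- the family over the local ring
  obtain ⟨φ, hφ⟩ : ∃ φ : C →ₐ[A] sR.Alg, ∀ c j,
      sR.basis.repr (φ c) j = algebraMap (Par A C d) R (parCoord A C d c j) := by
    let e := (parStr A C d).baseChangeEquiv R
    let q : (parStr A C d).Alg →+* sR.Alg :=
      e.symm.toRingEquiv.toRingHom.comp (Algebra.TensorProduct.includeRight : _ →ₐ[Par A C d] _).toRingHom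
    have hq : ∀ (y : Par A C d) j, q (y • (parStr A C d).basis j) = algebraMap (Par A C d) R y • sR.basis j :=
      fun y j => by
        show e.symm ((1 : R) ⊗ₜ[Par A C d] (y • (parStr A C d).basis j)) = _
        rw [AlgEquiv.symm_apply_eq, map_smul, TensorProduct.tmul_smul]
        have : e (sR.basis j) = (1 : R) ⊗ₜ (parStr A C d).basis j :=
          (Str.algEquiv_basis _ _ _ _ j).trans (Algebra.TensorProduct.basis_apply _ j)
        rw [this, algebraMap_smul]
    refine ⟨{ q.comp (parMap A C d) with
      commutes' := fun a => by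
        show q (parMap A C d (algebraMap A C a)) = algebraMap R sR.Alg (algebraMap A R a)
        rw [parMap_algebraMap]
        show e.symm ((1 : R) ⊗ₜ[Par A C d] algebraMap _ (parStr A C d).Alg (algebraMap A (Par A C d) a)) = _
        rw [Algebra.algebraMap_eq_smul_one, TensorProduct.tmul_smul, ← algebraMap_smul R, map_smul,
          ← IsScalarTower.algebraMap_apply A (Par A C d) R, ← Algebra.TensorProduct.one_def, map_one,
          ← Algebra.algebraMap_eq_smul_one] }, fun c j => ?_⟩
    show sR.basis.repr (q (parMap A C d c)) j = _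
    conv_lhs => rw [← (parStr A C d).basis.sum_repr (parMap A C d c), map_sum]
    simp only [hq, sR.basis.repr_sum_self]
    rfl
  let φR : R ⊗[A] C →ₐ[R] sR.Alg := Algebra.TensorProduct.lift (Algebra.ofId R sR.Alg) φ fun _ _ => Commute.all _ _
  have hφR : ∀ c, φR (1 ⊗ₜ c) = φ c := fun c => by
    rw [Algebra.TensorProduct.lift_tmul, map_one, one_mul]
  let eK := sR.baseChangeEquiv K
  let φK' : K ⊗[A] C →ₐ[K] K ⊗[R] sR.Alg := eK.toAlgHom.comp φK
  have hφK' : ∀ c, φK' (1 ⊗ₜ c) = 1 ⊗ₜ φ c := fun c => by
    show eK (φK (1 ⊗ₜ c)) = _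
    conv_lhs => rw [← (sR.map (algebraMap R K)).basis.sum_repr (φK (1 ⊗ₜ c)), map_sum]
    conv_rhs => rw [← sR.basis.sum_repr (φ c), TensorProduct.tmul_sum]
    refine Finset.sum_congr rfl fun j _ => ?_
    have : eK ((sR.map (algebraMap R K)).basis j) = (1 : K) ⊗ₜ sR.basis j :=
      (Str.algEquiv_basis _ _ _ _ j).trans (Algebra.TensorProduct.basis_apply _ j)
    rw [map_smul, this, TensorProduct.tmul_smul, hφK, hφ, ← hxR, algebraMap_smul]
  obtain ⟨g, f, hg, hRs, hf, hfl, hk⟩ := exists_flat_model (K := K) hK φ φK' hφK'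
    (eK.surjective.comp hsurj) n h t (hunit.map eK) (fun i => by show eK (φK (t i)) = 0; rw [ht, map_zero])
    (fun z hz => hker z (eK.injective (by rw [map_zero]; exact hz))) hflat φR hφR
  refine Algebra.FormallySmooth.of_comp_surjective fun A' _ _ I hI ρ => ?_
  obtain ⟨s', φ', hs', hφ'A, hφ'⟩ := exists_lift_model sR.basis φ φR hφR hRs g f hg hf hfl hk I hI ρ
  obtain ⟨y, hy1, hy2⟩ := exists_par_hom s' φ' hφ'A
  have hρ : (Ideal.Quotient.mkₐ A I).comp y = ρ.comp (IsScalarTower.toAlgHom A (Par A C d) R) := by
    refine par_hom_ext ?_ fun c j => ?_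
    · show ((parStr A C d).map y.toRingHom).map (Ideal.Quotient.mk I) = sR.map ρ.toRingHom
      rw [hy1, hs']
      congr 1
      ext i
      · show sR.basis.repr 1 i = sR.unit i
        rw [Str.one_eq, sR.basis.repr_sum_self]
      · rename_i j k
        show sR.basis.repr (sR.basis i * sR.basis j) k = sR.mul i j k
        rw [Str.basis_mul, sR.basis.repr_sum_self]
    · show Ideal.Quotient.mk I (y (parCoord A C d c j)) = ρ (algebraMap (Par A C d) R (parCoord A C d c j))
      rw [hy2, hφ', hφ]
  have hyu : ∀ z : p.primeCompl, IsUnit (y z) := fun z => by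
    refine (IsNilpotent.isUnit_quotient_mk_iff (I := I) ⟨2, hI⟩).1 ?_
    rw [show Ideal.Quotient.mk I (y z) = ρ (algebraMap (Par A C d) R z) from AlgHom.congr_fun hρ z]
    exact (IsLocalization.map_units R z).map ρ
  refine ⟨IsLocalization.liftAlgHom (S := R) (f := y) hyu, ?_⟩
  refine IsLocalization.algHom_ext p.primeCompl (AlgHom.ext fun z => ?_)
  show Ideal.Quotient.mk I (IsLocalization.liftAlgHom (S := R) (f := y) hyu (algebraMap (Par A C d) R z)) = _
  rw [IsLocalization.liftAlgHom_apply, IsLocalization.lift_eq]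
  exact AlgHom.congr_fun hρ z

/-- A finite quotient of an algebra over a field as an algebra of structure constants. -/
theorem exists_str_quotient {K CK D : Type u} [Field K] [CommRing CK] [Algebra K CK] [CommRing D] [Algebra K D]
    [Module.Finite K D] (π : CK →ₐ[K] D) (hπ : Function.Surjective π) :
    ∃ (d : ℕ) (s : Str K d) (φ : CK →ₐ[K] s.Alg), Function.Surjective φ ∧ (∀ z, φ z = 0 → π z = 0) ∧
      (∀ z, π z = 0 → φ z = 0) ∧ ∀ z, IsUnit (π z) → IsUnit (φ z) := by
  let e := (Str.ofBasisEquiv (Module.finBasis K D)).symm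
  exact ⟨_, Str.ofBasis (Module.finBasis K D), e.toAlgHom.comp π, e.surjective.comp hπ,
    fun z hz => e.injective (hz.trans (map_zero e).symm), fun z hz => (congrArg e hz).trans (map_zero e),
    fun z hz => hz.map e⟩

open scoped TensorProduct in
/-- Above every prime with nonempty fibre some parameter algebra has a smooth point. -/
theorem exists_smooth_par [Algebra.FinitePresentation A C] [Module.Flat A C] (q : Ideal A) [q.IsPrime]
    [Nontrivial (q.ResidueField ⊗[A] C)] :
    ∃ (d : ℕ) (p : Ideal (Par A C d)), p.IsPrime ∧ p.comap (algebraMap A (Par A C d)) = q ∧ d ≠ 0 ∧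
      ∃ g ∉ p, Algebra.Smooth A (Localization.Away g) := by
  let K := q.ResidueField
  obtain ⟨n, h, t, hflat, hfin, hnt, hsurj⟩ := exists_flat_slice K (K ⊗[A] C)
  let D := Localization.Away h ⧸ Ideal.span (Set.range fun i => algebraMap (K ⊗[A] C) (Localization.Away h) (t i))
  haveI := hfin
  obtain ⟨d, sK, φK, hφs, hφ0, hφ0', hφu⟩ :=
    exists_str_quotient (IsScalarTower.toAlgHom K (K ⊗[A] C) D) hsurj
  obtain ⟨x, hx1, hx2⟩ := exists_par_hom (A := A) sK
    (φK.toRingHom.comp (Algebra.TensorProduct.includeRight : C →ₐ[A] K ⊗[A] C).toRingHom) fun a => by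
      show φK ((Algebra.TensorProduct.includeRight : C →ₐ[A] K ⊗[A] C) (algebraMap A C a)) = _
      rw [AlgHom.commutes, IsScalarTower.algebraMap_apply A K (K ⊗[A] C), AlgHom.commutes]
  haveI : (RingHom.ker x).IsPrime := RingHom.ker_isPrime x
  have hsm : Algebra.IsSmoothAt A (RingHom.ker x) := by
    refine formallySmooth_par x ?_ sK hx1 φK (fun c j => (hx2 c j).symm)
      hφs h t ?_ (fun i => ?_) (fun z hz => ?_) hflat _ rfl
    · intro k
      obtain ⟨a, c, hc, rfl⟩ := IsFractionRing.div_surjective (A := A ⧸ q) k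
      obtain ⟨a, rfl⟩ := Ideal.Quotient.mk_surjective a
      obtain ⟨c, rfl⟩ := Ideal.Quotient.mk_surjective c
      have hq : ∀ a : A, algebraMap (A ⧸ q) K (Ideal.Quotient.mk q a) = x (algebraMap A _ a) := fun a => by
        rw [x.commutes]
        rfl
      have hc0 : algebraMap (A ⧸ q) K (Ideal.Quotient.mk q c) ≠ 0 :=
        IsFractionRing.to_map_ne_zero_of_mem_nonZeroDivisors hc
      refine ⟨algebraMap A _ a, algebraMap A _ c, by rwa [← hq], ?_⟩
      rw [← hq, ← hq, div_mul_cancel₀ _ hc0]
    · exact hφu _ ((IsLocalization.Away.algebraMap_isUnit h).map (Ideal.Quotient.mk (Ideal.span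
        (Set.range fun i => algebraMap (K ⊗[A] C) (Localization.Away h) (t i)))))
    · exact hφ0' _ (Ideal.Quotient.eq_zero_iff_mem.2 (Ideal.subset_span ⟨i, rfl⟩))
    · exact Ideal.Quotient.eq_zero_iff_mem.1 (hφ0 z hz)
  haveI := hsm
  refine ⟨d, RingHom.ker x, inferInstance, ?_, fun hd => ?_,
    Algebra.IsSmoothAt.exists_notMem_smooth A (RingHom.ker x)⟩
  swap
  · subst hd
    have h1 : φK 1 = 0 := funext fun i => i.elim0
    exact one_ne_zero ((map_one _).symm.trans (hφ0 1 h1) : (1 : D) = 0)
  refine Ideal.ext fun a => ?_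
  rw [Ideal.mem_comap, RingHom.mem_ker, x.commutes]
  exact Ideal.algebraMap_residueField_eq_zero

end Groth.L09.Artin
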