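import Mathlib.LinearAlgebra.StdBasis
import Mathlib.RingTheory.TensorProduct.Free
import Mathlib.RingTheory.MvPolynomial.Basic
import Mathlib.RingTheory.Ideal.Quotient.Operations
import Mathlib.Algebra.Algebra.Pi
import Mathlib.RingTheory.TensorProduct.Finite
import Mathlib.RingTheory.Polynomial.Basic
import Mathlib.RingTheory.Flat.Basic

/-!
Commutative algebra structures on finite free modules with basis, and their parameter algebra.
-/

set_option autoImplicit false

universe u

open TensorProduct

namespace Groth.L09.Artin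

/-- Structure constants of a commutative algebra with basis of `d` elements. -/
structure Str (T : Type u) [CommRing T] (d : ℕ) : Type u where
  unit : Fin d → T
  mul : Fin d → Fin d → Fin d → T
  comm : ∀ i j k, mul i j k = mul j i k
  assoc : ∀ i j k n, ∑ l, mul i j l * mul l k n = ∑ l, mul j k l * mul i l n
  one_mul : ∀ i k, ∑ j, unit j * mul j i k = if i = k then 1 else 0

namespace Str

variable {T : Type u} [CommRing T] {d : ℕ} (s : Str T d)

@[ext]
theorem ext' {s s' : Str T d} (h : s.unit = s'.unit) (h' : s.mul = s'.mul) : s = s' := by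
  cases s; cases s'; cases h; cases h'; rfl

/-- The algebra of the structure constants. -/
def Alg (_s : Str T d) : Type u := Fin d → T

instance : AddCommGroup s.Alg := inferInstanceAs (AddCommGroup (Fin d → T))
instance : Module T s.Alg := inferInstanceAs (Module T (Fin d → T))

/-- The standard basis. -/
noncomputable def basis : Module.Basis (Fin d) T s.Alg := Pi.basisFun T (Fin d)

/-- The multiplication. -/
noncomputable def μ : s.Alg →ₗ[T] s.Alg →ₗ[T] s.Alg :=
  s.basis.constr T fun i => s.basis.constr T fun j => ∑ k, s.mul i j k • s.basis k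

/-- The unit element. -/
noncomputable def e : s.Alg := ∑ i, s.unit i • s.basis i

theorem μ_basis (i j : Fin d) : s.μ (s.basis i) (s.basis j) = ∑ k, s.mul i j k • s.basis k := by
  simp [μ]

theorem μ_comm (x y : s.Alg) : s.μ x y = s.μ y x := by
  have h : s.μ = s.μ.flip := s.basis.ext fun i => s.basis.ext fun j => by
    rw [LinearMap.flip_apply, μ_basis, μ_basis]
    simp only [s.comm i j]
  exact LinearMap.congr_fun (LinearMap.congr_fun h x) y

theorem μ_assoc (x y z : s.Alg) : s.μ (s.μ x y) z = s.μ x (s.μ y z) := by
  have hb : ∀ i j k, s.μ (s.μ (s.basis i) (s.basis j)) (s.basis k) =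
      s.μ (s.basis i) (s.μ (s.basis j) (s.basis k)) := fun i j k => by
    simp only [μ_basis, map_sum, map_smul, LinearMap.sum_apply, LinearMap.smul_apply, Finset.smul_sum, smul_smul]
    rw [Finset.sum_comm, Finset.sum_comm (γ := Fin d) (f := fun a b => (s.mul j k a * s.mul i a b) • s.basis b)]
    refine Finset.sum_congr rfl fun n _ => ?_
    rw [← Finset.sum_smul, ← Finset.sum_smul, s.assoc]
  have h1 : ∀ j k, ∀ x, s.μ (s.μ x (s.basis j)) (s.basis k) = s.μ x (s.μ (s.basis j) (s.basis k)) := fun j k x => by
    rw [← s.basis.sum_repr x]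
    simp only [map_sum, map_smul, LinearMap.sum_apply, LinearMap.smul_apply, hb]
  have h2 : ∀ k, ∀ y, s.μ (s.μ x y) (s.basis k) = s.μ x (s.μ y (s.basis k)) := fun k y => by
    rw [← s.basis.sum_repr y]
    simp only [map_sum, map_smul, LinearMap.sum_apply, LinearMap.smul_apply, h1]
  rw [← s.basis.sum_repr z]
  simp only [map_sum, map_smul, h2]

theorem μ_one (x : s.Alg) : s.μ s.e x = x := by
  have h : s.μ s.e = LinearMap.id := s.basis.ext fun i => by
    simp only [e, map_sum, map_smul, LinearMap.sum_apply, LinearMap.smul_apply, μ_basis, Finset.smul_sum, smul_smul,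
      LinearMap.id_apply]
    rw [Finset.sum_comm]
    simp only [← Finset.sum_smul, s.one_mul, ite_smul, one_smul, zero_smul, Finset.sum_ite_eq, Finset.mem_univ,
      if_true]
  rw [h, LinearMap.id_apply]

noncomputable instance : CommRing s.Alg where
  __ := (inferInstance : AddCommGroup s.Alg)
  mul x y := s.μ x y
  one := s.e
  left_distrib x y z := map_add (s.μ x) y z
  right_distrib x y z := by show s.μ (x + y) z = _; rw [map_add]; rfl
  zero_mul x := by show s.μ 0 x = 0; rw [map_zero]; rfl
  mul_zero x := map_zero (s.μ x)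
  mul_assoc := s.μ_assoc
  one_mul := s.μ_one
  mul_one x := (s.μ_comm x s.e).trans (s.μ_one x)
  mul_comm := s.μ_comm

noncomputable instance : Algebra T s.Alg :=
  Algebra.ofModule (fun r x y => by show s.μ (r • x) y = r • s.μ x y; rw [map_smul]; rfl)
    (fun r x y => map_smul (s.μ x) r y)

theorem basis_mul (i j : Fin d) : s.basis i * s.basis j = ∑ k, s.mul i j k • s.basis k := s.μ_basis i j

theorem one_eq : (1 : s.Alg) = ∑ i, s.unit i • s.basis i := rfl

instance : Module.Free T s.Alg := Module.Free.of_basis s.basis
instance : Module.Finite T s.Alg := Module.Finite.of_basis s.basis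

/-- The image of structure constants. -/
def map {T' : Type u} [CommRing T'] (f : T →+* T') : Str T' d where
  unit i := f (s.unit i)
  mul i j k := f (s.mul i j k)
  comm i j k := congrArg f (s.comm i j k)
  assoc i j k n := by simp only [← map_mul, ← map_sum, s.assoc]
  one_mul i k := by
    simp only [← map_mul, ← map_sum, s.one_mul]
    split <;> simp

variable {B : Type u} [CommRing B] [Algebra T B]

/-- The structure constants of an algebra with basis. -/
noncomputable def ofBasis (b : Module.Basis (Fin d) T B) : Str T d where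
  unit i := b.repr 1 i
  mul i j k := b.repr (b i * b j) k
  comm i j k := by rw [mul_comm]
  assoc i j k n := by
    have h1 : b i * b j * b k = ∑ l, b.repr (b i * b j) l • (b l * b k) := by
      conv_lhs => rw [← b.sum_repr (b i * b j), Finset.sum_mul]
      simp only [smul_mul_assoc]
    have h2 : b i * (b j * b k) = ∑ l, b.repr (b j * b k) l • (b i * b l) := by
      conv_lhs => rw [← b.sum_repr (b j * b k), Finset.mul_sum]
      simp only [mul_smul_comm]
    have h := congrArg (fun z => b.repr z n) (h1.symm.trans ((mul_assoc _ _ _).trans h2))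
    simpa [map_sum, Finsupp.finsetSum_apply] using h
  one_mul i k := by
    have h1 : b i = ∑ j, b.repr 1 j • (b j * b i) := by
      conv_lhs => rw [← _root_.one_mul (b i), ← b.sum_repr (1 : B), Finset.sum_mul]
      simp only [smul_mul_assoc]
    have h := congrArg (fun z => b.repr z k) h1
    simp only [b.repr_self, map_sum, map_smul, Finsupp.finsetSum_apply, Finsupp.smul_apply, smul_eq_mul] at h
    rw [← h, Finsupp.single_apply]

/-- An algebra with basis and given structure constants is the algebra of the structure constants. -/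
noncomputable def algEquiv (b : Module.Basis (Fin d) T B) (h1 : (1 : B) = ∑ i, s.unit i • b i)
    (h2 : ∀ i j, b i * b j = ∑ k, s.mul i j k • b k) : s.Alg ≃ₐ[T] B :=
  AlgEquiv.ofLinearEquiv (s.basis.equiv b (Equiv.refl _))
    (by rw [one_eq, map_sum, h1]; simp only [map_smul, Module.Basis.equiv_apply, Equiv.refl_apply])
    (fun x y => by
      have h : LinearMap.compr₂ (LinearMap.mul T s.Alg) (s.basis.equiv b (Equiv.refl _)).toLinearMap =
          LinearMap.compl₁₂ (LinearMap.mul T B) (s.basis.equiv b (Equiv.refl _)).toLinearMap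
            (s.basis.equiv b (Equiv.refl _)).toLinearMap := s.basis.ext fun i => s.basis.ext fun j => by
        simp only [LinearMap.compr₂_apply, LinearMap.compl₁₂_apply, LinearMap.mul_apply', LinearEquiv.coe_coe,
          basis_mul, map_sum, map_smul, Module.Basis.equiv_apply, Equiv.refl_apply, h2]
      exact LinearMap.congr_fun (LinearMap.congr_fun h x) y)

theorem algEquiv_basis (b : Module.Basis (Fin d) T B) (h1 : (1 : B) = ∑ i, s.unit i • b i)
    (h2 : ∀ i j, b i * b j = ∑ k, s.mul i j k • b k) (i : Fin d) : s.algEquiv b h1 h2 (s.basis i) = b i := by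
  show s.basis.equiv b (Equiv.refl _) (s.basis i) = b i
  simp

/-- An algebra with basis is the algebra of its structure constants. -/
noncomputable def ofBasisEquiv (b : Module.Basis (Fin d) T B) : (ofBasis b).Alg ≃ₐ[T] B :=
  (ofBasis b).algEquiv b (b.sum_repr 1).symm fun i j => (b.sum_repr (b i * b j)).symm

/-- Base change of the algebra of structure constants. -/
noncomputable def baseChangeEquiv (T' : Type u) [CommRing T'] [Algebra T T'] :
    (s.map (algebraMap T T')).Alg ≃ₐ[T'] T' ⊗[T] s.Alg :=
  (s.map (algebraMap T T')).algEquiv (Algebra.TensorProduct.basis T' s.basis)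
    (by
      rw [Algebra.TensorProduct.one_def, one_eq, TensorProduct.tmul_sum]
      exact Finset.sum_congr rfl fun i _ => by
        rw [Algebra.TensorProduct.basis_apply, TensorProduct.tmul_smul]
        exact (algebraMap_smul T' (s.unit i) _).symm)
    (fun i j => by
      simp only [Algebra.TensorProduct.basis_apply, Algebra.TensorProduct.tmul_mul_tmul, mul_one, basis_mul,
        TensorProduct.tmul_sum]
      exact Finset.sum_congr rfl fun k _ => by
        rw [TensorProduct.tmul_smul]
        exact (algebraMap_smul T' (s.mul i j k) _).symm)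

end Str

variable (d : ℕ)

/-- Generators of the parameter algebra. -/
abbrev StrVar : Type := Fin d ⊕ (Fin d × Fin d × Fin d)

/-- The relations between structure constants. -/
noncomputable def strRels : Set (MvPolynomial (StrVar d) (ULift.{u} ℤ)) :=
  Set.range (fun x : Fin d × Fin d × Fin d =>
      MvPolynomial.X (Sum.inr x) - MvPolynomial.X (Sum.inr (x.2.1, x.1, x.2.2))) ∪
    Set.range (fun x : (Fin d × Fin d) × Fin d × Fin d =>
      ∑ l, MvPolynomial.X (Sum.inr (x.1.1, x.1.2, l)) * MvPolynomial.X (Sum.inr (l, x.2.1, x.2.2)) -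
        ∑ l, MvPolynomial.X (Sum.inr (x.1.2, x.2.1, l)) * MvPolynomial.X (Sum.inr (x.1.1, l, x.2.2))) ∪
    Set.range (fun x : Fin d × Fin d =>
      ∑ j, MvPolynomial.X (Sum.inl j) * MvPolynomial.X (Sum.inr (j, x.1, x.2)) - if x.1 = x.2 then 1 else 0)

/-- The parameter algebra of structure constants. -/
abbrev StrRing : Type u := MvPolynomial (StrVar d) (ULift.{u} ℤ) ⧸ Ideal.span (strRels.{u} d)

variable {d}

/-- The universal structure constants. -/
noncomputable def univStr : Str (StrRing.{u} d) d where
  unit i := Ideal.Quotient.mk _ (MvPolynomial.X (Sum.inl i))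
  mul i j k := Ideal.Quotient.mk _ (MvPolynomial.X (Sum.inr (i, j, k)))
  comm i j k := (Ideal.Quotient.eq).2 (Ideal.subset_span (Or.inl (Or.inl ⟨(i, j, k), rfl⟩)))
  assoc i j k n := by
    simp only [← map_mul, ← map_sum]
    exact (Ideal.Quotient.eq).2 (Ideal.subset_span (Or.inl (Or.inr ⟨((i, j), k, n), rfl⟩)))
  one_mul i k := by
    have h : Ideal.Quotient.mk (Ideal.span (strRels.{u} d))
        (∑ j, MvPolynomial.X (Sum.inl j) * MvPolynomial.X (Sum.inr (j, i, k))) =
          Ideal.Quotient.mk _ (if i = k then 1 else 0) :=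
      (Ideal.Quotient.eq).2 (Ideal.subset_span (Or.inr ⟨(i, k), rfl⟩))
    simp only [map_sum, map_mul] at h
    rw [h]
    split <;> simp

/-- The variables evaluated at structure constants. -/
def Str.val {T : Type u} [CommRing T] (s : Str T d) : StrVar d → T :=
  Sum.elim s.unit fun x => s.mul x.1 x.2.1 x.2.2

/-- The point of the parameter algebra given by structure constants. -/
noncomputable def Str.toHom {T : Type u} [CommRing T] (s : Str T d) : StrRing.{u} d →+* T :=
  Ideal.Quotient.lift _ (MvPolynomial.eval₂Hom ((Int.castRingHom T).comp ULift.ringEquiv.toRingHom) s.val)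
    fun x hx => by
      refine RingHom.mem_ker.1 ((Ideal.span_le.2 ?_) hx : x ∈ RingHom.ker (MvPolynomial.eval₂Hom
        ((Int.castRingHom T).comp ULift.ringEquiv.toRingHom) s.val))
      rintro _ ((⟨⟨i, j, k⟩, rfl⟩ | ⟨⟨⟨i, j⟩, k, n⟩, rfl⟩) | ⟨⟨i, k⟩, rfl⟩) <;>
        rw [SetLike.mem_coe, RingHom.mem_ker] <;>
        simp only [map_sub, map_sum, map_mul, MvPolynomial.eval₂Hom_X', Str.val, Sum.elim_inl, Sum.elim_inr]
      · exact sub_eq_zero.2 (s.comm i j k)
      · exact sub_eq_zero.2 (s.assoc i j k n)
      · rw [s.one_mul]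
        split <;> simp

theorem univStr_map_toHom {T : Type u} [CommRing T] (s : Str T d) : univStr.map s.toHom = s := by
  ext <;> simp [Str.map, univStr, Str.toHom, Str.val]

theorem strRing_hom_ext {T : Type u} [CommRing T] {f g : StrRing.{u} d →+* T}
    (h : univStr.map f = univStr.map g) : f = g := by
  refine Ideal.Quotient.ringHom_ext (MvPolynomial.ringHom_ext (fun z => ?_) fun v => ?_)
  · obtain ⟨z⟩ := z
    exact RingHom.congr_fun (Subsingleton.elim
      ((f.comp ((Ideal.Quotient.mk _).comp MvPolynomial.C)).comp (ULift.ringEquiv.{0, u} (R := ℤ)).symm.toRingHom)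
      ((g.comp ((Ideal.Quotient.mk _).comp MvPolynomial.C)).comp (ULift.ringEquiv.{0, u} (R := ℤ)).symm.toRingHom)) z
  · rcases v with i | ⟨i, j, k⟩
    · exact congrArg (fun s => s.unit i) h
    · exact congrArg (fun s => s.mul i j k) h

end Groth.L09.Artin
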